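import Groth.Agent.RegLib.Recur
import Mathlib.Tactic.Ring
import Mathlib.Algebra.Module.BigOperators
import Mathlib.Tactic.Linarith

/-!
# Solutions of the binomial recurrence
-/

set_option autoImplicit false

noncomputable section

namespace Groth.Agent.RegLib.Recur

variable {G : Type*} [AddCommGroup G]

theorem rec'_succ (N : ℕ) (v : ℕ → G) (t : ℕ) : rec' (N + 1) v t = rec' N v t - rec' N v (t + 1) := by
  simp only [rec']
  rw [Finset.sum_range_succ' (n := N + 1), Finset.sum_range_succ' (n := N) (f := fun k =>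
      ((-1 : ℤ) ^ k * (N.choose k : ℤ)) • v (t + k))]
  have h : ∀ k : ℕ, ((-1 : ℤ) ^ (k + 1) * ((N + 1).choose (k + 1) : ℤ)) • v (t + (k + 1)) =
      ((-1 : ℤ) ^ (k + 1) * (N.choose (k + 1) : ℤ)) • v (t + (k + 1)) -
        ((-1 : ℤ) ^ k * (N.choose k : ℤ)) • v (t + 1 + k) := by
    intro k
    rw [Nat.choose_succ_succ, show t + 1 + k = t + (k + 1) by omega, ← sub_smul]
    push_cast
    congr 1
    ring
  simp only [h, Finset.sum_sub_distrib]
  rw [Finset.sum_range_succ (n := N) (f := fun k =>
    ((-1 : ℤ) ^ (k + 1) * (N.choose (k + 1) : ℤ)) • v (t + (k + 1)))]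
  simp [Nat.choose_eq_zero_of_lt]
  abel

theorem rec'_choose : ∀ (N r t : ℕ), N ≤ r →
    rec' N (fun j => (j.choose r : ℤ)) t = (-1 : ℤ) ^ N * (t.choose (r - N) : ℤ)
  | 0, r, t, _ => by simp [rec']
  | N + 1, r, t, h => by
    obtain ⟨d, rfl⟩ := Nat.exists_eq_add_of_le h
    rw [rec'_succ, rec'_choose N _ t (by omega), rec'_choose N _ (t + 1) (by omega),
      show N + 1 + d - N = d + 1 by omega, show N + 1 + d - (N + 1) = d by omega, Nat.choose_succ_succ, pow_succ]
    push_cast
    ring

theorem rec'_choose_zero (r t : ℕ) : rec' (r + 1) (fun j => (j.choose r : ℤ)) t = 0 := by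
  rw [rec'_succ, rec'_choose r r t le_rfl, rec'_choose r r (t + 1) le_rfl]
  simp

/-- A solution vanishing below the order is a multiple of the binomial coefficient. -/
theorem eq_choose_smul {r : ℕ} {v : ℕ → G} (hrec : ∀ t, rec' (r + 1) v t = 0) (h0 : ∀ j < r, v j = 0) (j : ℕ) :
    v j = (j.choose r : ℤ) • v r := by
  induction j using Nat.strong_induction_on with
  | _ j ih =>
    rcases lt_trichotomy j r with h | h | h
    · rw [h0 j h, Nat.choose_eq_zero_of_lt h]
      simp
    · subst h
      simp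
    · obtain ⟨t, rfl⟩ := Nat.exists_eq_add_of_le (show r + 1 ≤ j by omega)
      have h1 := hrec t
      have h2 := congrArg (· • v r) (rec'_choose_zero r t)
      rw [rec', Finset.sum_range_succ, show t + (r + 1) = r + 1 + t by omega] at h1
      simp only [rec', Finset.sum_smul, add_smul, zero_smul] at h2
      rw [Finset.sum_range_succ, show t + (r + 1) = r + 1 + t by omega] at h2
      have hs : ∑ k ∈ Finset.range (r + 1), ((-1 : ℤ) ^ k * ((r + 1).choose k : ℤ)) • v (t + k) =
          ∑ k ∈ Finset.range (r + 1), (((-1 : ℤ) ^ k * ((r + 1).choose k : ℤ)) • ((t + k).choose r : ℤ)) • v r := by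
        refine Finset.sum_congr rfl fun k hk => ?_
        rw [ih (t + k) (by have := Finset.mem_range.1 hk; omega), smul_smul, smul_eq_mul]
      rw [hs, add_eq_zero_iff_eq_neg] at h1
      rw [add_eq_zero_iff_eq_neg] at h2
      have h3 := neg_inj.1 (h1.symm.trans h2)
      simp only [Nat.choose_self, Nat.cast_one, mul_one, smul_eq_mul, mul_smul] at h3
      rcases neg_one_pow_eq_or ℤ (r + 1) with e | e <;> simp only [e, neg_smul, one_smul] at h3
      · exact h3
      · exact neg_inj.1 h3

end Groth.Agent.RegLib.Recur
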