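import Groth.Agent.RegLib.KMain
import Groth.Agent.RegLib.Binom
import Groth.Agent.BCLib.SteinFlat

/-!
# The direct image from projective space on models of Grothendieck groups
-/

set_option autoImplicit false
set_option linter.style.haveILetI false
set_option linter.unusedSectionVars false
set_option maxHeartbeats 1000000
set_option backward.isDefEq.respectTransparency false

universe u v w

open CategoryTheory CategoryTheory.Limits AlgebraicGeometry TopologicalSpace Opposite
open Groth.Agent.DCohLib Groth.Agent.DCohMore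

attribute [local instance] HasDerivedCategory.standard

noncomputable section

namespace Groth.Agent.RegLib

open Groth.Agent.DCohMore.TwistOver

variable {r : ℕ} {S : Scheme.{u}}

local notation "P" => KRR.PY r S
local notation "π" => KRR.pr r S

theorem isFinLocFree_structure (X : Scheme.{u}) : FlatMod.IsFinLocFree (Coh.structureModule X) :=
  BCLib.isFinLocFree_structureModule X

theorem isReg_structure : KRR.IsRegSheaf r S (Coh.structureModule (KRR.PY r S)) :=
  isReg_congr (pullStructureIso π) (isReg_pullback _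
    (PullbackMod.isQCoh_and_isFP_of_isFinLocFree _ (isFinLocFree_structure S)).1)

/-- Twists of the structure sheaf are twisted inverse images. -/
def twStructureIso (d : ℤ) : pullT r S d (Coh.structureModule S) ≅ KRR.twF r S d (Coh.structureModule (KRR.PY r S)) :=
  (T r S d).mapIso (pullStructureIso π)

theorem cl_push_structure :
    KRR.cl S ((Scheme.Modules.pushforward π).obj (Coh.structureModule (KRR.PY r S))) =
      KRR.cl S (Coh.structureModule S) := by
  have hO := isFinLocFree_structure S
  have hu := isIso_unit_mod (r := r) _ (PullbackMod.isQCoh_and_isFP_of_isFinLocFree _ hO).1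
  exact cl_iso (@asIso _ _ _ _ _ hu ≪≫
    (Scheme.Modules.pushforward π).mapIso (pullStructureIso π)) hO

/-- Tensoring twisted inverse images. -/
theorem nonempty_pullT_tensor (d : ℤ) (M N : S.Modules) :
    Nonempty (((DCoh.tensorBi (X := P)).obj (pullT r S d M)).obj ((Scheme.Modules.pullback π).obj N) ≅
      pullT r S d (((DCoh.tensorBi (X := S)).obj M).obj N)) :=
  ⟨(ModTensor.tensorAssoc (KRR.PY r S).sheaf ((Scheme.Modules.pullback π).obj M)
      ((Scheme.Modules.pullback π).obj N)).app (O r S d) ≪≫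
    (T r S d).mapIso (((pullTensorBiIsoSch π).app M).app N).symm⟩

variable [CompactSpace S] {KP : Type v} {KY : Type w} [CommRing KP] [CommRing KY]
  {φP : SGA6.Kvb (KRR.PY r S) →+ KP} {φY : SGA6.Kvb S →+ KY}

/-- A push-forward is determined on all acyclic vector bundles. -/
theorem push_cl {g : KP →+ KY} (hg : KRR.IsPushPr r S φP φY g) {M : (P).Modules} (hM : FlatMod.IsFinLocFree M)
    (h : ∀ j : ℕ, ∀ q : ℤ, 1 ≤ q → Van r S q j M) :
    g (φP (KRR.cl (P) M)) = φY (KRR.cl S ((Scheme.Modules.pushforward π).obj M)) := by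
  obtain ⟨φ, hφ⟩ := exists_pushK (r := r) (S := S)
  obtain ⟨f, hf⟩ := exists_incl (r := r) (S := S)
  have e : (g.comp φP).comp f = (φY.comp φ).comp f := by
    refine QuotientAddGroup.addMonoidHom_ext _ (FreeAbelianGroup.lift_ext _ _ fun Z => ?_)
    show g (φP (f (QuotientAddGroup.mk (FreeAbelianGroup.of Z)))) =
      φY (φ (f (QuotientAddGroup.mk (FreeAbelianGroup.of Z))))
    rw [mk_of Z, hf _ Z.2, hg _ Z.2.1 Z.2.2,
      hφ _ Z.2.1 fun j q hq => van_of_isReg Z.2.2 hq (by omega)]
  obtain ⟨z, hz⟩ := (bijective_incl hf).2 (KRR.cl (P) M)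
  rw [← hφ M hM h, ← hz]
  exact DFunLike.congr_fun e z

theorem push_pullT {g : KP →+ KY} (hg : KRR.IsPushPr r S φP φY g) (d : ℤ) (hd : -(r : ℤ) ≤ d) {M : S.Modules}
    (hM : FlatMod.IsFinLocFree M) :
    g (φP (KRR.cl (P) (pullT r S d M))) = φY (KRR.cl S ((Scheme.Modules.pushforward π).obj (pullT r S d M))) :=
  push_cl hg (isFinLocFree_pullT d hM) fun j q hq => van_pullT d hd hM j q hq

theorem push_pullT_neg {g : KP →+ KY} (hg : KRR.IsPushPr r S φP φY g) {d : ℤ} (h₀ : d < 0) (hd : -(r : ℤ) ≤ d)
    {M : S.Modules} (hM : FlatMod.IsFinLocFree M) : g (φP (KRR.cl (P) (pullT r S d M))) = 0 := by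
  rw [push_pullT hg d hd hM]
  exact (congrArg φY (KZeroLib.clSub_isZero (isZero_push_pullT d h₀ hd hM))).trans (map_zero φY)

theorem push_pullT_zero {g : KP →+ KY} (hg : KRR.IsPushPr r S φP φY g) {M : S.Modules}
    (hM : FlatMod.IsFinLocFree M) : g (φP (KRR.cl (P) (pullT r S 0 M))) = φY (KRR.cl S M) := by
  rw [push_pullT hg 0 (by omega) hM]
  obtain ⟨e⟩ := nonempty_push_pullT_zero (r := r) hM
  rw [cl_iso e.symm hM]

/-- The direct image of the twists of the structure sheaf. -/
theorem push_twF {g : KP →+ KY} (hg : KRR.IsPushPr r S φP φY g) (m : ℕ) :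
    g (φP (KRR.cl (P) (KRR.twF r S (m : ℤ) (Coh.structureModule (KRR.PY r S))))) =
      ((r + m).choose m : ℤ) • φY (KRR.cl S (Coh.structureModule S)) := by
  have hO := isFinLocFree_structure S
  let w : ℕ → KY := fun j => g (φP (KRR.cl (P) (pullT r S ((j : ℤ) - r) (Coh.structureModule S))))
  have hrec : ∀ t, Recur.rec' (r + 1) w t = 0 := fun t => by
    have h := (allData r S).rec_val (isFinLocFree_pullT (-(r : ℤ)) hO) t fun _ _ =>
      isFinLocFree_T _ (isFinLocFree_pullT _ hO)
    have hv : ∀ j : ℕ, w j = g (φP ((allData r S).val ((T r S (j : ℤ)).obj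
        (pullT r S (-(r : ℤ)) (Coh.structureModule S))))) := fun j => by
      obtain ⟨c⟩ := nonempty_T_comp r S (show -(r : ℤ) + (j : ℤ) = (j : ℤ) - r by ring)
      exact congrArg (fun x => g (φP x)) (cl_iso (c.app _) (isFinLocFree_T _ (isFinLocFree_pullT _ hO)))
    calc Recur.rec' (r + 1) w t = (g.comp φP) (Recur.rec' (r + 1) (fun j : ℕ => (allData r S).val
          ((T r S (j : ℤ)).obj (pullT r S (-(r : ℤ)) (Coh.structureModule S)))) t) := by
          simp only [Recur.rec', map_sum, map_zsmul, hv]
          rfl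
      _ = 0 := by rw [h, map_zero]
  have h0 : ∀ j < r, w j = 0 := fun j hj => push_pullT_neg hg (by omega) (by omega) hO
  have h := Recur.eq_choose_smul hrec h0 (r + m)
  have hr : w r = φY (KRR.cl S (Coh.structureModule S)) := by
    show g (φP (KRR.cl (P) (pullT r S ((r : ℤ) - r) _))) = _
    rw [sub_self]
    exact push_pullT_zero hg hO
  rw [hr, Nat.choose_symm_add] at h
  refine Eq.trans ?_ h
  show g (φP _) = g (φP (KRR.cl (P) (pullT r S (((r + m : ℕ) : ℤ) - r) _)))
  rw [show ((r + m : ℕ) : ℤ) - r = m by push_cast; ring,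
    cl_iso (twStructureIso (m : ℤ)) (isFinLocFree_pullT _ hO)]

end Groth.Agent.RegLib
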