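import Groth.Agent.DCohMore.ProjSpaceOverDer
import Groth.Agent.DCohMore.DescFPPF
import Groth.Agent.DCohMore.PushZero
import Groth.Agent.DCohMore.RpushQC
import Groth.Agent.DCohMore.BCAffineQC
import Groth.Agent.BCLib.TensorQCoh
import Groth.Prelude.Def_KRR

/-!
# Higher direct images of the twists along projective space over an arbitrary scheme
-/

set_option autoImplicit false
set_option linter.style.haveILetI false
set_option linter.unusedSectionVars false
set_option maxHeartbeats 1000000
set_option backward.isDefEq.respectTransparency false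

universe u

open CategoryTheory CategoryTheory.Limits AlgebraicGeometry TopologicalSpace Opposite
open CategoryTheory.Pretriangulated
open Groth.Agent.DCohLib Groth.Agent.DCohMore

attribute [local instance] HasDerivedCategory.standard

noncomputable section

namespace Groth.Agent.RegLib

open Groth.Agent.DCohMore.TwistOver

variable (r : ℕ) (S : Scheme.{u})

local notation "P" => KRR.PY r S
local notation "π" => KRR.pr r S

instance hasRpush_pr : DCoh.HasRpush π := BC.hasRpush π

instance hasLpull_pr : DCoh.HasLpull π := hasLpull π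

instance additive_rpush_pr : (DCoh.Rpush π).Additive :=
  haveI : (DCoh.Rpush π).IsRightAdjoint := (lpullRpushAdj π).isRightAdjoint
  CategoryTheory.Functor.additive_of_preserves_binary_products _

/-- The derived direct image of a twist of a module. -/
abbrev W (d : ℤ) (M : (KRR.PY r S).Modules) : DCoh.D S :=
  (DCoh.Rpush (KRR.pr r S)).obj (DCoh.inD (KRR.PY r S) ((T r S d).obj M))

/-- The higher direct image in degree `q` of the twist by `d` vanishes. -/
def Van (q d : ℤ) (M : (KRR.PY r S).Modules) : Prop := IsZero (DCoh.HD (W r S d M) q)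

variable {r S}

theorem van_of_iso {q d : ℤ} {M N : (P).Modules} (e : M ≅ N) (h : Van r S q d M) : Van r S q d N :=
  IsZero.of_iso h ((DerivedCategory.homologyFunctor S.Modules q).mapIso ((DCoh.Rpush π).mapIso
    ((DerivedCategory.singleFunctor (P).Modules 0).mapIso ((T r S d).mapIso e.symm))))

theorem van_T {q c d e : ℤ} (h : c + d = e) (M : (P).Modules) :
    Van r S q d ((T r S c).obj M) ↔ Van r S q e M := by
  obtain ⟨t⟩ := nonempty_T_comp r S h
  let i := (DerivedCategory.homologyFunctor S.Modules q).mapIso ((DCoh.Rpush π).mapIso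
    ((DerivedCategory.singleFunctor (P).Modules 0).mapIso (t.app M)))
  exact ⟨fun hz => IsZero.of_iso hz i.symm, fun hz => IsZero.of_iso hz i⟩

theorem isGE_W (d : ℤ) (M : (P).Modules) : (W r S d M).IsGE 0 := isGE_rpush π _ 0

theorem van_of_neg {q : ℤ} (hq : q < 0) (d : ℤ) (M : (P).Modules) : Van r S q d M := by
  haveI := isGE_W d M
  exact DerivedCategory.isZero_of_isGE _ 0 q hq

theorem van_iff_rpush (p : ℕ) (d : ℤ) (M : (P).Modules) :
    Van r S p d M ↔ IsZero ((Coh.RpushAb π p).obj (Coh.toAb (KRR.twF r S d M))) := by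
  haveI : EnoughInjectives (P).Modules := inferInstance
  haveI : HasInjectiveResolutions (P).Modules := inferInstance
  haveI : HasInjectiveResolutions (ModSite.Mod (P).sheaf) := ‹HasInjectiveResolutions (P).Modules›
  haveI : SiteCmp.HasRpushD (ModSite.RMor.ofScheme π) := hasRpush_pr r S
  obtain ⟨e⟩ := SiteCmpLib.nonempty_homology_rpushD_single (ModSite.RMor.ofScheme π) ((T r S d).obj M) p
  let e' := (RpushLib.toAbRpushIso π p).app ((T r S d).obj M)
  haveI : (QCohLib.toAbF S).Faithful := inferInstanceAs (SheafOfModules.toSheaf.{u} S.ringCatSheaf).Faithful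
  constructor
  · intro h
    exact ((QCohLib.toAbF S).map_isZero (IsZero.of_iso h e.symm)).of_iso e'.symm
  · intro h
    have h1 := IsZero.of_iso h e'
    refine IsZero.of_iso ?_ e
    rw [IsZero.iff_id_eq_zero]
    exact (QCohLib.toAbF S).map_injective (h1.eq_of_src _ _)

theorem isReg_iff (M : (P).Modules) :
    KRR.IsRegSheaf r S M ↔ ∀ q : ℕ, 1 ≤ q → Van r S q (-(q : ℤ)) M :=
  ⟨fun h q hq => (van_iff_rpush q _ M).2 (h q hq), fun h q hq => (van_iff_rpush q _ M).1 (h q hq)⟩

section SES

variable {E : ShortComplex (KRR.PY r S).Modules} (hE : E.ShortExact) (q : ℤ) (d : ℤ)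

include hE

theorem exists_triangle : ∃ c, Triangle.mk
    ((DCoh.Rpush π).map ((DerivedCategory.singleFunctor (P).Modules 0).map ((T r S d).map E.f)))
    ((DCoh.Rpush π).map ((DerivedCategory.singleFunctor (P).Modules 0).map ((T r S d).map E.g))) c ∈
      distTriang (DCoh.D S) := by
  have h1 := hE.map_of_exact (T r S d)
  exact BC.exTri_rpush π _ h1.singleTriangle_distinguished

theorem van₂ (h₁ : Van r S q d E.X₁) (h₃ : Van r S q d E.X₃) : Van r S q d E.X₂ := by
  obtain ⟨c, hc⟩ := exists_triangle hE d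
  exact (DerivedCategory.HomologySequence.exact₂ _ hc q).isZero_of_both_zeros
    (h₁.eq_of_src _ _) (h₃.eq_of_tgt _ _)

theorem van₃ (h₂ : Van r S q d E.X₂) (h₁ : Van r S (q + 1) d E.X₁) : Van r S q d E.X₃ := by
  obtain ⟨c, hc⟩ := exists_triangle hE d
  exact (DerivedCategory.HomologySequence.exact₃ _ hc q (q + 1) rfl).isZero_of_both_zeros
    (h₂.eq_of_src _ _) (h₁.eq_of_tgt _ _)

theorem van₁ (h₃ : Van r S (q - 1) d E.X₃) (h₂ : Van r S q d E.X₂) : Van r S q d E.X₁ := by
  obtain ⟨c, hc⟩ := exists_triangle hE d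
  exact (DerivedCategory.HomologySequence.exact₁ _ hc (q - 1) q (sub_add_cancel q 1)).isZero_of_both_zeros
    (h₃.eq_of_src _ _) (h₂.eq_of_tgt _ _)

theorem van₁_one (h : Epi ((Scheme.Modules.pushforward π).map ((T r S d).map E.g)))
    (h₂ : Van r S 1 d E.X₂) : Van r S 1 d E.X₁ := by
  obtain ⟨c, hc⟩ := exists_triangle hE d
  have hepi : Epi ((DerivedCategory.homologyFunctor S.Modules 0).map
      ((DCoh.Rpush π).map ((DerivedCategory.singleFunctor (P).Modules 0).map ((T r S d).map E.g)))) :=
    ((MorphismProperty.epimorphisms S.Modules).arrow_mk_iso_iff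
      (((Functor.mapArrowFunctor _ _).mapIso (PushZero.zeroIso π)).app (Arrow.mk ((T r S d).map E.g)))).1
      ((MorphismProperty.epimorphisms.iff _).2 h)
  have hδ := (DerivedCategory.HomologySequence.epi_homologyMap_mor₂_iff _ hc 0 1).1 hepi
  exact (DerivedCategory.HomologySequence.exact₁ _ hc 0 1).isZero_of_both_zeros
    hδ (h₂.eq_of_tgt _ _)

end SES

/-- Vanishing in all degrees. -/
theorem isZero_W {d : ℤ} {M : (P).Modules} (h : ∀ q : ℤ, Van r S q d M) : IsZero (W r S d M) :=
  isZero_of_isZero_HD h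

theorem van_of_isZero {d : ℤ} {M : (P).Modules} (h : IsZero (W r S d M)) (q : ℤ) : Van r S q d M :=
  (DerivedCategory.homologyFunctor S.Modules q).map_isZero h

theorem van_of_module_isZero {M : (P).Modules} (h : IsZero M) (q d : ℤ) : Van r S q d M :=
  van_of_isZero ((DCoh.Rpush π).map_isZero
    ((DerivedCategory.singleFunctor (P).Modules 0).map_isZero ((T r S d).map_isZero h))) q

theorem isQCoh_T (d : ℤ) (M : (P).Modules) [Coh.IsQCoh M] : Coh.IsQCoh ((T r S d).obj M) := by
  haveI := (PullbackMod.isQCoh_and_isFP_of_isFinLocFree _ (isFinLocFree_O r S d)).1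
  exact BCLib.isQCoh_tensorMod _ M

theorem nonempty_F_inD (d : ℤ) (M : (P).Modules) :
    Nonempty ((F r S d).obj (DCoh.inD P M) ≅ DCoh.inD P ((T r S d).obj M)) :=
  ⟨((T r S d).mapDerivedCategorySingleFunctor 0).app M⟩

theorem isQCohD_inD {X : Scheme.{u}} (M : X.Modules) (h : Coh.IsQCoh M) : DCoh.IsQCohD (DCoh.inD X M) :=
  TildeD.isQCohD_of_iso ((DerivedCategory.singleFunctorIsoCompQ X.Modules 0).app M).symm
    (isQCohD_sgl₀ M h)

/-- The twists `0, …, -r` detect zero modules. -/
theorem isZero_of_van_window (c : ℤ) (M : (P).Modules) [Coh.IsQCoh M]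
    (h : ∀ (j : ℕ), j ≤ r → ∀ q : ℤ, Van r S q (c - j) M) : IsZero M := by
  haveI := isQCoh_T c M
  have hz : IsZero (DCoh.inD P ((T r S c).obj M)) := by
    refine isZero_of_window r S _ (isQCohD_inD _ ‹_›) fun j hj => ?_
    obtain ⟨e⟩ := nonempty_F_inD (-(j : ℤ)) ((T r S c).obj M)
    exact IsZero.of_iso (isZero_W fun q => (van_T (d := -(j : ℤ)) (e := c - j) (by omega) M).2 (h j hj q))
      ((DCoh.Rpush π).mapIso e)
  obtain ⟨t⟩ := nonempty_T_comp r S (show c + -c = 0 by omega)
  obtain ⟨z⟩ := nonempty_T_zero r S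
  refine IsZero.of_iso ?_ ((t ≪≫ z).app M).symm
  exact (T r S (-c)).map_isZero (IsZero.of_iso ((DerivedCategory.homologyFunctor (P).Modules 0).map_isZero hz)
    ((DerivedCategory.singleFunctorCompHomologyFunctorIso (P).Modules 0).app _).symm)

/-- The inverse image of a module is its derived inverse image. -/
theorem nonempty_lpull_inD (M : S.Modules) :
    Nonempty ((DCoh.Lpull π).obj (DCoh.inD S M) ≅ DCoh.inD P ((Scheme.Modules.pullback π).obj M)) := by
  let K := (DCoh.Lpull π).obj (DCoh.inD S M)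
  have hz : ∀ i : ℤ, i ≠ 0 → IsZero (DCoh.HD K i) := fun i hi => by
    obtain ⟨e⟩ := nonempty_HD_lpull_flat π (DCoh.inD S M) i
    exact IsZero.of_iso ((Scheme.Modules.pullback π).map_isZero (isZero_HD_inD M hi)) e.symm
  haveI : K.IsGE 0 := (DerivedCategory.isGE_iff _ _).2 fun i hi => hz i (by omega)
  haveI : K.IsLE 0 := (DerivedCategory.isLE_iff _ _).2 fun i hi => hz i (by omega)
  obtain ⟨N, ⟨eN⟩⟩ := DerivedCategory.exists_iso_singleFunctor_obj_of_isGE_of_isLE K 0
  obtain ⟨e⟩ := nonempty_HD_lpull_flat π (DCoh.inD S M) 0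
  exact ⟨eN ≪≫ (DerivedCategory.singleFunctor (P).Modules 0).mapIso
    (((DerivedCategory.singleFunctorCompHomologyFunctorIso (P).Modules 0).app N).symm ≪≫
      (DerivedCategory.homologyFunctor (P).Modules 0).mapIso eN.symm ≪≫ e.symm ≪≫
      (Scheme.Modules.pullback π).mapIso
        ((DerivedCategory.singleFunctorCompHomologyFunctorIso S.Modules 0).app M))⟩

theorem van_pullback_window (M : S.Modules) (hM : Coh.IsQCoh M) {d : ℤ} (h₀ : d < 0) (hr : -(r : ℤ) ≤ d) (q : ℤ) :
    Van r S q d ((Scheme.Modules.pullback π).obj M) := by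
  obtain ⟨e⟩ := nonempty_lpull_inD (r := r) M
  obtain ⟨e'⟩ := nonempty_F_inD d ((Scheme.Modules.pullback π).obj M)
  exact van_of_isZero (IsZero.of_iso (isZero_rpush_F_lpull r S d h₀ hr _ (isQCohD_inD M hM))
    ((DCoh.Rpush π).mapIso ((F r S d).mapIso e ≪≫ e').symm)) q

theorem van_pullback_zero (M : S.Modules) (hM : Coh.IsQCoh M) {q : ℤ} (hq : q ≠ 0) :
    Van r S q 0 ((Scheme.Modules.pullback π).obj M) := by
  obtain ⟨e⟩ := nonempty_lpull_inD (r := r) M
  obtain ⟨e'⟩ := nonempty_F_inD 0 ((Scheme.Modules.pullback π).obj M)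
  obtain ⟨z⟩ := nonempty_F_zero r S
  haveI := isIso_unit r S _ (isQCohD_inD M hM)
  exact IsZero.of_iso (isZero_HD_inD M hq) ((DerivedCategory.homologyFunctor S.Modules q).mapIso
    (asIso ((lpullRpushAdj π).unit.app (DCoh.inD S M)) ≪≫
      (DCoh.Rpush π).mapIso (e ≪≫ (z.app _).symm ≪≫ e')).symm)

end Groth.Agent.RegLib
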