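import Groth.Agent.RegLib.Serre
import Groth.Agent.DCohMore.PushFlf
import Groth.Agent.DCohMore.FinPushRes

/-!
# Direct images of acyclic twists of vector bundles
-/

set_option autoImplicit false
set_option linter.style.haveILetI false
set_option maxHeartbeats 1000000
set_option backward.isDefEq.respectTransparency false

universe u

open CategoryTheory CategoryTheory.Limits AlgebraicGeometry TopologicalSpace Opposite
open Groth.Agent.DCohLib Groth.Agent.DCohMore

attribute [local instance] HasDerivedCategory.standard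

noncomputable section

namespace Groth.Agent.RegLib

open Groth.Agent.DCohMore.TwistOver

variable {r : ℕ} {S : Scheme.{u}}

theorem isFinLocFree_T (d : ℤ) {F : (KRR.PY r S).Modules} (hF : FlatMod.IsFinLocFree F) :
    FlatMod.IsFinLocFree ((T r S d).obj F) :=
  Groth.Agent.DCohLib.isFinLocFree_tensor (isFinLocFree_O r S d) hF

/-- Direct images of acyclic twists of vector bundles are vector bundles. -/
theorem isFinLocFree_push_T {F : (KRR.PY r S).Modules} (hF : FlatMod.IsFinLocFree F) (d : ℤ)
    (h : ∀ q : ℕ, 1 ≤ q → Van r S q d F) :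
    FlatMod.IsFinLocFree ((Scheme.Modules.pushforward (KRR.pr r S)).obj ((T r S d).obj F)) := by
  let π := KRR.pr r S
  have hT := isFinLocFree_T d hF
  haveI : EnoughInjectives (KRR.PY r S).Modules := inferInstance
  haveI : HasInjectiveResolutions (KRR.PY r S).Modules := inferInstance
  have huniv : ClSub.IsProperOver π (Set.univ : Set (KRR.PY r S)) :=
    (ClSubLib.isProperOver_iff π (𝟙 _) (Set.range_id)).2 (by rw [Category.id_comp]; infer_instance)
  have hfp := (PullbackMod.isQCoh_and_isFP_of_isFinLocFree _ hT).2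
  refine PushFlf.isFinLocFree_push π _ hfp (TwistFam.isFlatOver_of_isFinLocFree π hT)
    (ClSubLib.isProperOver_subset π huniv (PullbackMod.isClosed_support_of_isFT
      (ExactConstrLib.isFT_of_isFP hfp)) (Set.subset_univ _)) fun q hq => ?_
  have h' := IsZero.of_iso ((van_iff_rpush q d F).1 (h q (by omega)))
    ((RpushLib.toAbRpushIso π q).app ((T r S d).obj F))
  haveI : (QCohLib.toAbF S).Faithful := inferInstanceAs (SheafOfModules.toSheaf.{u} S.ringCatSheaf).Faithful
  rw [IsZero.iff_id_eq_zero]
  exact (QCohLib.toAbF S).map_injective (h'.eq_of_src _ _)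

theorem exists_finLocFree_push [CompactSpace S] {F : (KRR.PY r S).Modules} (hF : FlatMod.IsFinLocFree F) :
    ∃ m₀ : ℕ, ∀ d : ℤ, (m₀ : ℤ) ≤ d → (∀ q : ℤ, 1 ≤ q → Van r S q d F) ∧
      FlatMod.IsFinLocFree ((Scheme.Modules.pushforward (KRR.pr r S)).obj ((T r S d).obj F)) := by
  obtain ⟨m, hm⟩ := exists_vanishing F hF
  exact ⟨m, fun d hd => ⟨hm d hd, isFinLocFree_push_T hF d fun q hq => hm d hd q (by omega)⟩⟩

end Groth.Agent.RegLib
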