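import Groth.Agent.RegLib.Basic
import Groth.Agent.DCohMore.BCNat

/-!
# The unit of inverse and direct image along projective space
-/

set_option autoImplicit false
set_option linter.style.haveILetI false
set_option linter.unusedSectionVars false
set_option maxHeartbeats 1000000
set_option backward.isDefEq.respectTransparency false

universe u

open CategoryTheory CategoryTheory.Limits AlgebraicGeometry TopologicalSpace Opposite
open Groth.Agent.DCohLib Groth.Agent.DCohMore

attribute [local instance] HasDerivedCategory.standard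

noncomputable section

namespace Groth.Agent.RegLib

open Groth.Agent.DCohMore.TwistOver

/-- Derived inverse image along a flat morphism is computed by any complex. -/
theorem isIso_lpullNat_flat {X Y : Scheme.{u}} (f : X ⟶ Y) [Flat f] [DCoh.HasLpull f]
    (C : CochainComplex Y.Modules ℤ) : IsIso ((BC.lpullNat f).app C) := by
  haveI : PreservesFiniteLimits (Scheme.Modules.pullback f) := preservesFiniteLimits_pullback_of_flat f
  haveI : PreservesColimitsOfSize.{u, u} (Scheme.Modules.pullback f) :=
    (Scheme.Modules.pullbackPushforwardAdjunction f).leftAdjoint_preservesColimits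
  haveI : PreservesColimitsOfSize.{0, 0} (Scheme.Modules.pullback f) :=
    preservesColimitsOfSize_shrink.{0, u, 0, u} _
  haveI : PreservesFiniteColimits (Scheme.Modules.pullback f) :=
    PreservesColimitsOfSize.preservesFiniteColimits _
  let p := (resXπ Y).app C
  haveI hp : QuasiIso p := quasiIso_resXπ C
  haveI h1 : IsIso ((BC.lpullNat f).app ((resX Y).obj C)) :=
    BC.isIso_lpullNat_app f _ (isIso_lpullCounit_app_of_isKFlat f _ (isKFlat_resX C))
  haveI h2 : IsIso (DerivedCategory.Q.map (((Scheme.Modules.pullback f).mapHomologicalComplex (ComplexShape.up ℤ)).map p)) :=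
    Localization.inverts DerivedCategory.Q (HomologicalComplex.quasiIso X.Modules (ComplexShape.up ℤ)) _
      ((HomologicalComplex.mem_quasiIso_iff _).2 inferInstance)
  haveI h3 : IsIso ((DerivedCategory.Q ⋙ DCoh.Lpull f).map p) := by
    haveI : IsIso (DerivedCategory.Q.map p) := isIso_Q_resXπ C
    exact inferInstanceAs (IsIso ((DCoh.Lpull f).map (DerivedCategory.Q.map p)))
  haveI : IsIso ((DerivedCategory.Q ⋙ DCoh.Lpull f).map p ≫
      (BC.lpullNat f).app ((𝟭 (CochainComplex Y.Modules ℤ)).obj C)) := by
    rw [(BC.lpullNat f).naturality p]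
    exact IsIso.comp_isIso' h1 h2
  exact IsIso.of_isIso_comp_left ((DerivedCategory.Q ⋙ DCoh.Lpull f).map p)
    ((BC.lpullNat f).app ((𝟭 (CochainComplex Y.Modules ℤ)).obj C))

/-- A monad naturally isomorphic to the identity has invertible unit. -/
theorem isIso_unit_of_theta {C D : Type*} [Category C] [Category D] {L : C ⥤ D} {R : D ⥤ C} (adj : L ⊣ R)
    (θ : 𝟭 C ⟶ L ⋙ R) (X : C) [IsIso (θ.app X)] : IsIso (adj.unit.app X) := by
  let TX := (L ⋙ R).obj X
  let μ : (L ⋙ R).obj TX ⟶ TX := R.map (adj.counit.app (L.obj X))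
  let w : X ⟶ X := θ.app X ≫ θ.app TX ≫ μ ≫ inv (θ.app X)
  let u : X ⟶ X := adj.unit.app X ≫ inv (θ.app X)
  have hμ : (L ⋙ R).map (adj.unit.app X) ≫ μ = 𝟙 TX := by
    exact (R.map_comp _ _).symm.trans ((congrArg (fun t => R.map t) (adj.left_triangle_components X)).trans (R.map_id _))
  have h1 : adj.unit.app X ≫ θ.app TX = θ.app X ≫ (L ⋙ R).map (adj.unit.app X) := θ.naturality (adj.unit.app X)
  have huw : u ≫ w = 𝟙 X := by
    simp only [u, w, Category.assoc, IsIso.inv_hom_id_assoc]
    rw [reassoc_of% h1, reassoc_of% hμ]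
    exact (congrArg (θ.app X ≫ ·) (Category.id_comp _)).trans (IsIso.hom_inv_id (θ.app X))
  have hwu : w ≫ u = 𝟙 X := by
    have e1 : w ≫ adj.unit.app X = adj.unit.app X ≫ (L ⋙ R).map w := adj.unit.naturality w
    have e2 : θ.app X ≫ (L ⋙ R).map w = w ≫ θ.app X := (θ.naturality w).symm
    have e3 : (L ⋙ R).map w ≫ inv (θ.app X) = inv (θ.app X) ≫ w := by
      rw [IsIso.comp_inv_eq, Category.assoc, ← e2, IsIso.inv_hom_id_assoc]
    rw [← huw]
    simp only [u, ← Category.assoc]
    rw [e1, Category.assoc, e3]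
    simp only [Category.assoc]
  haveI : IsIso u := ⟨w, huw, hwu⟩
  rw [show adj.unit.app X = u ≫ θ.app X by simp [u]]
  infer_instance

variable {r : ℕ} {S : Scheme.{u}}

local notation "π" => KRR.pr r S

/-- Quasi-coherent modules are the direct images of their inverse images. -/
theorem isIso_unit_mod (M : S.Modules) (hM : Coh.IsQCoh M) :
    IsIso ((Scheme.Modules.pullbackPushforwardAdjunction π).unit.app M) := by
  let H := DerivedCategory.homologyFunctor S.Modules 0
  let τS := DerivedCategory.singleFunctorIsoCompQ S.Modules 0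
  let τP := DerivedCategory.singleFunctorIsoCompQ (KRR.PY r S).Modules 0
  haveI : ∀ N, IsIso ((BC.lamN π 0).app N) := fun N => by
    haveI := isIso_lpullNat_flat π ((CochainComplex.singleFunctor S.Modules 0).obj N)
    simp only [BC.lamN, NatTrans.comp_app, Functor.whiskerLeft_app, Functor.whiskerRight_app,
      Functor.associator_hom_app, Functor.associator_inv_app]
    infer_instance
  let l := @asIso _ _ _ _ (BC.lamN π 0) (NatIso.isIso_of_isIso_app _)
  let σ : Scheme.Modules.pullback π ⋙ Scheme.Modules.pushforward π ≅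
      BC.TT S 0 ⋙ (DCoh.Lpull π ⋙ DCoh.Rpush π) ⋙ H :=
    Functor.isoWhiskerLeft _ (PushZero.zeroIso π ≪≫ Functor.isoWhiskerRight τP _) ≪≫
      (Functor.associator _ _ _).symm ≪≫ Functor.isoWhiskerRight l.symm (DCoh.Rpush π ⋙ H) ≪≫
      Functor.associator _ _ _
  let θ : 𝟭 S.Modules ⟶ Scheme.Modules.pullback π ⋙ Scheme.Modules.pushforward π :=
    ((DerivedCategory.singleFunctorCompHomologyFunctorIso S.Modules 0).symm ≪≫
      Functor.isoWhiskerRight τS H).hom ≫
    Functor.whiskerLeft (BC.TT S 0) (Functor.whiskerRight (lpullRpushAdj π).unit H) ≫ σ.inv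
  haveI : IsIso ((lpullRpushAdj π).unit.app ((BC.TT S 0).obj M)) :=
    isIso_unit r S _ (TildeD.isQCohD_of_iso (τS.app M) (isQCohD_inD M hM))
  haveI : IsIso (θ.app M) := by
    simp only [θ, NatTrans.comp_app, Functor.whiskerLeft_app, Functor.whiskerRight_app]
    exact IsIso.comp_isIso' inferInstance (IsIso.comp_isIso' (Functor.map_isIso H _) inferInstance)
  exact isIso_unit_of_theta _ θ M

end Groth.Agent.RegLib
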