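import Groth.Agent.RegLib.Counit
import Groth.Agent.RegLib.UnitMod
import Mathlib.Algebra.Homology.Single
import Mathlib.Algebra.Homology.QuasiIso

/-!
# The canonical resolution of a regular module
-/

set_option autoImplicit false
set_option linter.style.haveILetI false
set_option linter.unusedSectionVars false
set_option maxHeartbeats 1000000
set_option backward.isDefEq.respectTransparency false

universe u

open CategoryTheory CategoryTheory.Limits AlgebraicGeometry TopologicalSpace Opposite
open Groth.Agent.DCohLib Groth.Agent.DCohMore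

attribute [local instance] HasDerivedCategory.standard

noncomputable section

namespace Groth.Agent.RegLib

open Groth.Agent.DCohMore.TwistOver

section Splice

variable {C : Type*} [Category C] [Abelian C] (Z L : ℕ → C) (ι : ∀ k, Z (k + 1) ⟶ L k) (p : ∀ k, L k ⟶ Z k)
  (w : ∀ k, ι k ≫ p k = 0) (h : ∀ k, (ShortComplex.mk _ _ (w k)).ShortExact)

include h in
theorem exists_splice : ∃ (K : ChainComplex C ℕ) (π : K ⟶ (ChainComplex.single₀ C).obj (Z 0)),
    (∀ k, Nonempty (K.X k ≅ L k)) ∧ QuasiIso π := by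
  let K : ChainComplex C ℕ := ChainComplex.of L (fun k => p (k + 1) ≫ ι k) fun k => by
    rw [Category.assoc, ← Category.assoc (ι (k + 1)), w (k + 1), zero_comp, comp_zero]
  have hd : ∀ k, K.d (k + 1) k = p (k + 1) ≫ ι k := fun k => by simp [K]
  have h0 : K.d 1 0 ≫ p 0 = 0 := by rw [hd, Category.assoc, w 0, comp_zero]
  refine ⟨K, (K.toSingle₀Equiv (Z 0)).symm ⟨p 0, h0⟩, fun k => ⟨Iso.refl _⟩, ?_⟩
  have hex : ∀ k, (ShortComplex.mk (p (k + 1) ≫ ι k) (p k) (by rw [Category.assoc, w k, comp_zero])).Exact := by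
    intro k
    haveI := (h (k + 1)).epi_g
    exact (ShortComplex.exact_iff_of_epi_of_isIso_of_mono
      (S₁ := ShortComplex.mk (p (k + 1) ≫ ι k) (p k) (by rw [Category.assoc, w k, comp_zero]))
      (S₂ := ShortComplex.mk (ι k) (p k) (w k))
      { τ₁ := p (k + 1), τ₂ := 𝟙 _, τ₃ := 𝟙 _ }).2 (h k).exact
  constructor
  intro i
  rcases i with _ | k
  · rw [ChainComplex.quasiIsoAt₀_iff, ShortComplex.quasiIso_iff_of_zeros' _ (by simp) (by simp) (by simp)]
    constructor
    · haveI := (h 0).epi_g
      refine (ShortComplex.exact_iff_of_iso (S₁ := ShortComplex.mk (p (0 + 1) ≫ ι 0) (p 0) (by rw [Category.assoc, w 0, comp_zero]))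
        ?_).1 (hex 0)
      exact ShortComplex.isoMk (Iso.refl _) (Iso.refl _) (Iso.refl _)
        ((Category.id_comp _).trans ((hd 0).trans (Category.comp_id _).symm))
        (by simp [K]; exact ChainComplex.toSingle₀Equiv_symm_apply_f_zero _ _)
    · haveI : Epi (p 0) := (h 0).epi_g
      simpa using (inferInstance : Epi (p 0))
  · rw [quasiIsoAt_iff_exactAt' _ _ (ChainComplex.exactAt_succ_single_obj _ _),
      HomologicalComplex.exactAt_iff' _ (k + 2) (k + 1) k (by simp) (by simp)]
    haveI := (h k).mono_f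
    refine (ShortComplex.exact_iff_of_iso
      (S₁ := ShortComplex.mk (p (k + 2) ≫ ι (k + 1)) (p (k + 1) ≫ ι k) (by
        rw [Category.assoc, ← Category.assoc (ι (k + 1)), w (k + 1), zero_comp, comp_zero]))
      ?_).1
      ((ShortComplex.exact_iff_of_epi_of_isIso_of_mono
        (S₁ := ShortComplex.mk (p (k + 2) ≫ ι (k + 1)) (p (k + 1)) (by rw [Category.assoc, w, comp_zero]))
        (S₂ := ShortComplex.mk (p (k + 2) ≫ ι (k + 1)) (p (k + 1) ≫ ι k) (by
          rw [Category.assoc, ← Category.assoc (ι (k + 1)), w (k + 1), zero_comp, comp_zero]))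
        { τ₁ := 𝟙 _, τ₂ := 𝟙 _, τ₃ := ι k }).1 (hex (k + 1)))
    exact ShortComplex.isoMk (Iso.refl _) (Iso.refl _) (Iso.refl _)
      ((Category.id_comp _).trans ((hd (k + 1)).trans (Category.comp_id _).symm))
      ((Category.id_comp _).trans ((hd k).trans (Category.comp_id _).symm))

end Splice

variable {r : ℕ} {S : Scheme.{u}}

local notation "P" => KRR.PY r S
local notation "π" => KRR.pr r S

/-- A regular quasi-coherent module. -/
structure RegObj (r : ℕ) (S : Scheme.{u}) where
  obj : (KRR.PY r S).Modules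
  qc : Coh.IsQCoh obj
  reg : KRR.IsRegSheaf r S obj

/-- The twisted syzygy. -/
def RegObj.next (Y : RegObj r S) : RegObj r S where
  obj := (T r S 1).obj (kernel (ev Y.obj))
  qc := by
    haveI := isQCoh_push Y.qc
    haveI := isQCoh_kernel' (ev Y.obj) (PullbackMod.isQCoh_pullback π _) Y.qc
    exact isQCoh_T 1 _
  reg := isReg_kernel Y.qc Y.reg

/-- The iterated twisted syzygies. -/
def syz (Y : RegObj r S) : ℕ → RegObj r S
  | 0 => Y
  | k + 1 => (syz Y k).next

/-- The direct images of the syzygies. -/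
abbrev syzPush (Y : RegObj r S) (k : ℕ) : S.Modules := (Scheme.Modules.pushforward π).obj (syz Y k).obj

theorem shortExact_ev (Y : RegObj r S) :
    (ShortComplex.mk (kernel.ι (ev Y.obj)) (ev Y.obj) (kernel.condition _)).ShortExact :=
  haveI := epi_ev Y.qc Y.reg
  { exact := ShortComplex.exact_kernel _ }

theorem van_push_zero (Y : RegObj r S) (q : ℤ) : Van r S q 0 (kernel (ev Y.obj)) := by
  have hE := shortExact_ev Y
  have hM := isQCoh_push Y.qc
  obtain ⟨c, hc⟩ := exists_triangle hE (0 : ℤ)
  rcases lt_trichotomy q 0 with hq | rfl | hq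
  · exact van_of_neg hq _ _
  · -- the counit is a monomorphism on direct images
    have hmono : IsIso ((Scheme.Modules.pushforward π).map (ev Y.obj)) := by
      haveI : IsIso ((lpullRpushAdj π).unit.app (DCoh.inD S ((Scheme.Modules.pushforward π).obj Y.obj))) :=
        isIso_unit r S _ (isQCohD_inD _ hM)
      have hu : IsIso ((Scheme.Modules.pullbackPushforwardAdjunction π).unit.app
          ((Scheme.Modules.pushforward π).obj Y.obj)) := isIso_unit_mod _ hM
      haveI : IsIso ((Scheme.Modules.pullbackPushforwardAdjunction π).unit.app ((Scheme.Modules.pushforward π).obj Y.obj) ≫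
          (Scheme.Modules.pushforward π).map (ev Y.obj)) := by
        rw [show (Scheme.Modules.pullbackPushforwardAdjunction π).unit.app ((Scheme.Modules.pushforward π).obj Y.obj) ≫
          (Scheme.Modules.pushforward π).map (ev Y.obj) = 𝟙 _ from
            (Scheme.Modules.pullbackPushforwardAdjunction π).right_triangle_components Y.obj]
        exact IsIso.id _
      exact IsIso.of_isIso_comp_left ((Scheme.Modules.pullbackPushforwardAdjunction π).unit.app
        ((Scheme.Modules.pushforward π).obj Y.obj)) _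
    obtain ⟨z⟩ := nonempty_T_zero r S
    have hT : IsIso ((Scheme.Modules.pushforward π).map ((T r S 0).map (ev Y.obj))) :=
      (NatIso.isIso_map_iff (Functor.isoWhiskerRight z (Scheme.Modules.pushforward π)) (ev Y.obj)).2 hmono
    have h2 : IsIso ((DerivedCategory.homologyFunctor S.Modules 0).map
        ((DCoh.Rpush π).map ((DerivedCategory.singleFunctor (P).Modules 0).map ((T r S 0).map (ev Y.obj))))) :=
      (NatIso.isIso_map_iff (PushZero.zeroIso π) _).1 hT
    exact (DerivedCategory.HomologySequence.exact₁ _ hc (-1) 0).isZero_of_both_zeros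
      ((van_of_neg (r := r) (S := S) (by norm_num) (0 : ℤ) Y.obj).eq_of_src _ _)
      ((DerivedCategory.HomologySequence.mono_homologyMap_mor₂_iff _ hc 0).1 (@IsIso.mono_of_iso _ _ _ _ _ h2))
  · rcases eq_or_lt_of_le (show 1 ≤ q by omega) with rfl | hq
    · exact van₁_one hE _ (epi_push_T_ev_zero _) (van_of_isReg (isReg_pullback _ hM) (by norm_num) (by norm_num))
    · exact van₁ hE q _ (van_of_isReg Y.reg (by omega) (by omega))
        (van_of_isReg (isReg_pullback _ hM) (by omega) (by omega))

theorem van_syz (Y : RegObj r S) : ∀ k : ℕ, k ≤ r + 1 → ∀ (q d : ℤ), -(k : ℤ) ≤ d → d < 0 →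
    Van r S q d (syz Y k).obj
  | 0, _, q, d, h1, h2 => absurd h1 (by omega)
  | k + 1, hk, q, d, h1, h2 => by
    refine (van_T (show (1 : ℤ) + d = d + 1 by ring) _).2 ?_
    rcases eq_or_lt_of_le (show d + 1 ≤ 0 by omega) with h0 | h0
    · rw [h0]
      exact van_push_zero _ q
    · exact van₁ (shortExact_ev (syz Y k)) q _ (van_syz Y k (by omega) (q - 1) (d + 1) (by push_cast at h1; omega) h0)
        (van_pullback_window _ (isQCoh_push (syz Y k).qc) h0 (by push_cast at h1; omega) q)

theorem isZero_syz (Y : RegObj r S) : ∀ k : ℕ, r + 1 ≤ k → IsZero (syz Y k).obj := by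
  intro k hk
  induction k, hk using Nat.le_induction with
  | base =>
    haveI := (syz Y (r + 1)).qc
    exact isZero_of_van_window (-1) _ fun j hj q => van_syz Y (r + 1) le_rfl q _ (by omega) (by omega)
  | succ k _ ih =>
    have hz : IsZero (kernel (ev (syz Y k).obj)) := IsZero.of_mono (kernel.ι (ev (syz Y k).obj))
      ((Scheme.Modules.pullback π).map_isZero ((Scheme.Modules.pushforward π).map_isZero ih))
    exact (T r S 1).map_isZero hz

/-- The terms of the canonical resolution. -/
abbrev resTerm (Y : RegObj r S) (k : ℕ) : (KRR.PY r S).Modules :=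
  (T r S (-(k : ℤ))).obj ((Scheme.Modules.pullback π).obj (syzPush Y k))

/-- The twisted syzygy in the resolution. -/
abbrev resCycle (Y : RegObj r S) (k : ℕ) : (KRR.PY r S).Modules := (T r S (-(k : ℤ))).obj (syz Y k).obj

theorem exists_ses (Y : RegObj r S) (k : ℕ) :
    ∃ (a : resCycle Y (k + 1) ⟶ resTerm Y k) (b : resTerm Y k ⟶ resCycle Y k) (w : a ≫ b = 0),
      (ShortComplex.mk a b w).ShortExact := by
  have h := (shortExact_ev (syz Y k)).map_of_exact (T r S (-(k : ℤ)))
  obtain ⟨t⟩ := nonempty_T_comp r S (show (1 : ℤ) + -((k + 1 : ℕ) : ℤ) = -(k : ℤ) by push_cast; ring)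
  refine ⟨(t.app (kernel (ev (syz Y k).obj))).hom ≫ (T r S (-(k : ℤ))).map (kernel.ι (ev (syz Y k).obj)),
    (T r S (-(k : ℤ))).map (ev (syz Y k).obj), ?_, ?_⟩
  · rw [Category.assoc, ← Functor.map_comp, kernel.condition, Functor.map_zero, comp_zero]
  · refine ShortComplex.shortExact_of_iso
      (S₁ := (ShortComplex.mk (kernel.ι (ev (syz Y k).obj)) (ev (syz Y k).obj) (kernel.condition _)).map (T r S (-(k : ℤ))))
      (ShortComplex.isoMk (t.app (kernel (ev (syz Y k).obj))).symm (Iso.refl _) (Iso.refl _) ?_ ?_) h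
    · exact ((t.app (kernel (ev (syz Y k).obj))).inv_hom_id_assoc _).trans (Category.comp_id _).symm
    · exact (Category.id_comp _).trans (Category.comp_id _).symm

theorem exists_resolution (F : (P).Modules) (hF : Coh.IsQCoh F) (hreg : KRR.IsRegSheaf r S F) :
    ∃ (Tm : ℕ → S.Modules) (L : ChainComplex (P).Modules ℕ) (p : L ⟶ (ChainComplex.single₀ (P).Modules).obj F),
      (∀ i, Coh.IsQCoh (Tm i)) ∧
      (∀ i, i ≤ r → Nonempty (L.X i ≅ (T r S (-(i : ℤ))).obj ((Scheme.Modules.pullback π).obj (Tm i)))) ∧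
      (∀ i, r < i → IsZero (L.X i)) ∧ QuasiIso p := by
  let Y : RegObj r S := ⟨F, hF, hreg⟩
  choose a b w hse using exists_ses Y
  obtain ⟨K, p, hK, hp⟩ := exists_splice (resCycle Y) (resTerm Y) a b w hse
  obtain ⟨z⟩ := nonempty_T_zero r S
  let e : resCycle Y 0 ≅ F := (eqToIso (by simp) : (T r S (-((0 : ℕ) : ℤ))).obj F ≅ (T r S 0).obj F) ≪≫ z.app F
  haveI := hp
  refine ⟨syzPush Y, K, p ≫ ((ChainComplex.single₀ (P).Modules).mapIso e).hom, fun i => isQCoh_push (syz Y i).qc,
    fun i _ => hK i, fun i hi => ?_, inferInstance⟩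
  obtain ⟨eK⟩ := hK i
  exact IsZero.of_iso ((T r S _).map_isZero ((Scheme.Modules.pullback π).map_isZero
    ((Scheme.Modules.pushforward π).map_isZero (isZero_syz Y i hi)))) eK

end Groth.Agent.RegLib
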