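import Groth.Agent.RegLib.Recur
import Groth.Agent.RegLib.PushReg
import Groth.Agent.RegLib.Resolution
import Groth.Agent.K0ResLib.Basic
import Groth.Agent.KRRAmple.PushCl

/-!
# Invariants of vector bundles on projective space from eventual values on twists
-/

set_option autoImplicit false
set_option linter.style.haveILetI false
set_option linter.unusedSectionVars false
set_option maxHeartbeats 1000000
set_option backward.isDefEq.respectTransparency false

universe u v w

open CategoryTheory CategoryTheory.Limits AlgebraicGeometry TopologicalSpace Opposite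
open Groth.Agent.DCohLib Groth.Agent.DCohMore

attribute [local instance] HasDerivedCategory.standard

noncomputable section

namespace Groth.Agent.RegLib

open Groth.Agent.DCohMore.TwistOver

theorem exists_lift {C : Type w} [Category.{v} C] [Abelian C] {P : ObjectProperty C} {G : Type*} [AddCommGroup G]
    (f : C → G) (h : ∀ {E : ShortComplex C}, E.ShortExact → P E.X₁ → P E.X₂ → P E.X₃ → f E.X₂ = f E.X₁ + f E.X₃) :
    ∃ g : KZero.K0sub P →+ G, ∀ X, P X → g (KZero.clSub P X) = f X := by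
  refine ⟨QuotientAddGroup.lift _ (FreeAbelianGroup.lift fun x => f x.1) ?_, fun X hX => ?_⟩
  · refine (AddSubgroup.closure_le _).2 ?_
    rintro _ ⟨E, h₁, h₂, h₃, hE, rfl⟩
    simp only [SetLike.mem_coe, AddMonoidHom.mem_ker, map_sub, FreeAbelianGroup.lift_apply_of, h hE h₁ h₂ h₃]
    abel
  · rw [Groth.Agent.K0ResLib.clSub_of hX]
    exact (QuotientAddGroup.lift_mk _ _ _).trans (FreeAbelianGroup.lift_apply_of _ _)

variable {r : ℕ} {S : Scheme.{u}}

local notation "P" => KRR.PY r S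
local notation "π" => KRR.pr r S

/-- Additive invariants defined on a class of vector bundles eventually containing all twists. -/
structure EvData (r : ℕ) (S : Scheme.{u}) (G : Type w) [AddCommGroup G] where
  Q : (KRR.PY r S).Modules → Prop
  val : (KRR.PY r S).Modules → G
  flf : ∀ {M}, Q M → FlatMod.IsFinLocFree M
  zero : ∀ {M}, IsZero M → Q M
  val_add : ∀ {E : ShortComplex (KRR.PY r S).Modules}, E.ShortExact → Q E.X₁ → Q E.X₂ → Q E.X₃ →
    val E.X₂ = val E.X₁ + val E.X₃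
  third : ∀ {E : ShortComplex (KRR.PY r S).Modules}, E.ShortExact → Q E.X₁ → Q E.X₂ →
    FlatMod.IsFinLocFree E.X₃ → Q E.X₃
  mid : ∀ {E : ShortComplex (KRR.PY r S).Modules}, E.ShortExact → Q E.X₁ → Q E.X₃ → Q E.X₂
  ev : ∀ {M}, FlatMod.IsFinLocFree M → ∃ m : ℕ, ∀ j : ℕ, m ≤ j → Q ((T r S (j : ℤ)).obj M)

namespace EvData

variable {G : Type w} [AddCommGroup G] (D : EvData r S G)

theorem val_isZero {M : (P).Modules} (h : IsZero M) : D.val M = 0 := by
  have hS : (ShortComplex.mk (0 : M ⟶ M) (0 : M ⟶ M) zero_comp).ShortExact :=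
    { exact := ShortComplex.exact_of_isZero_X₂ _ h
      mono_f := ⟨fun _ _ _ => h.eq_of_tgt _ _⟩
      epi_g := ⟨fun _ _ _ => h.eq_of_src _ _⟩ }
  simpa using D.val_add hS (D.zero h) (D.zero h) (D.zero h)

theorem congr {M N : (P).Modules} (e : M ≅ N) (h : D.Q M) : D.Q N ∧ D.val N = D.val M := by
  have hz : IsZero (cokernel e.hom) := isZero_cokernel_of_epi e.hom
  have hS : (ShortComplex.mk e.hom (cokernel.π e.hom) (cokernel.condition _)).ShortExact :=
    { exact := ShortComplex.exact_of_g_is_cokernel _ (cokernelIsCokernel _) }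
  have hN : D.Q N := D.mid hS h (D.zero hz)
  refine ⟨hN, ?_⟩
  have h2 := D.val_add hS h hN (D.zero hz)
  rw [D.val_isZero hz, add_zero] at h2
  exact h2

theorem sigma {M : (P).Modules} (h : D.Q M) : ∀ c : ℕ,
    D.Q (∐ fun _ : Fin c => M) ∧ D.val (∐ fun _ : Fin c => M) = (c : ℤ) • D.val M
  | 0 => by
    have hz : IsZero (∐ fun _ : Fin 0 => M) := (IsZero.iff_id_eq_zero _).2 (Sigma.hom_ext _ _ fun i => i.elim0)
    exact ⟨D.zero hz, by rw [D.val_isZero hz]; simp⟩
  | c + 1 => by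
    obtain ⟨hc, hv⟩ := sigma h c
    obtain ⟨h1, hv1⟩ := D.congr (coproductUniqueIso fun _ : Fin 1 => M).symm h
    let A := ∐ fun _ : Fin c => M
    let B := ∐ fun _ : Fin 1 => M
    have hS : (ShortComplex.mk (biprod.inl : A ⟶ A ⊞ B) biprod.snd biprod.inl_snd).ShortExact :=
      ShortComplex.Splitting.shortExact (ShortComplex.Splitting.ofHasBinaryBiproduct A B)
    obtain ⟨hQ, hval⟩ := D.congr (TwistFam.sumCopiesIso M c 1) (D.mid hS hc h1)
    refine ⟨hQ, hval.trans ((D.val_add hS hc (D.mid hS hc h1) h1).trans ?_)⟩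
    show D.val A + D.val B = _
    rw [hv, hv1]
    simp [add_smul]

theorem congr_sigma {M N : (P).Modules} {c : ℕ} (e : N ≅ ∐ fun _ : Fin c => M) (h : D.Q M) :
    D.Q N ∧ D.val N = (c : ℤ) • D.val M := by
  obtain ⟨hq, hv⟩ := D.sigma h c
  obtain ⟨hq', hv'⟩ := D.congr e.symm hq
  exact ⟨hq', hv'.trans hv⟩

end EvData

/-- Tensoring sums of twists. -/
theorem nonempty_tensor_sigma {c : ℕ} {N : (P).Modules} {a : ℤ} (e : N ≅ ∐ fun _ : Fin c => O r S a)
    (M : (P).Modules) : Nonempty ((DCoh.tensorRightMod M).obj N ≅ ∐ fun _ : Fin c => (T r S a).obj M) := by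
  haveI : (DCoh.tensorRightMod M).Additive := inferInstance
  let e' := e ≪≫ (biproduct.isoCoproduct (fun _ : Fin c => O r S a)).symm
  exact ⟨(DCoh.tensorRightMod M).mapIso e' ≪≫ (DCoh.tensorRightMod M).mapBiproduct _ ≪≫
    biproduct.isoCoproduct _⟩

namespace EvData

variable {G : Type w} [AddCommGroup G] (D : EvData r S G)

theorem isFinLocFree_tensorRight {A M : (P).Modules} (hA : FlatMod.IsFinLocFree A) (hM : FlatMod.IsFinLocFree M) :
    FlatMod.IsFinLocFree ((DCoh.tensorRightMod M).obj A) :=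
  isFinLocFree_tensor hA hM

/-- The values on the twists satisfy the recurrence where defined. -/
theorem rec_val {M : (P).Modules} (hM : FlatMod.IsFinLocFree M) (t : ℕ)
    (h : ∀ i : ℕ, i ≤ r + 1 → D.Q ((T r S ((t + i : ℕ) : ℤ)).obj M)) :
    Recur.rec' (r + 1) (fun j => D.val ((T r S (j : ℤ)).obj M)) t = 0 := by
  obtain ⟨C, hex, hflf, hterm, hzero⟩ := exists_koszul r S 0
  let M' := (T r S (t : ℤ)).obj M
  have hM' := isFinLocFree_T (r := r) (S := S) (t : ℤ) hM
  let E := ((DCoh.tensorRightMod M').mapHomologicalComplex (ComplexShape.up ℤ)).obj C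
  have hE : ∀ i, E.ExactAt i := exactAt_tensorRight M' C _ (fun n hn => hzero n (Or.inr hn))
    (fun n => isFlat_of_flf (hflf n)) hex
  have hzE : ∀ i : ℤ, i < 0 ∨ (r : ℤ) + 1 < i → IsZero (E.X i) := fun i hi =>
    (DCoh.tensorRightMod M').map_isZero (hzero i hi)
  have hflfE : ∀ i : ℤ, FlatMod.IsFinLocFree (E.X i) := fun i => isFinLocFree_tensorRight (hflf i) hM'
  have hX : ∀ i : ℕ, i ≤ r + 1 → D.Q (E.X i) ∧
      D.val (E.X i) = (((r + 1).choose i : ℕ) : ℤ) • D.val ((T r S ((t + i : ℕ) : ℤ)).obj M) := by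
    intro i hi
    obtain ⟨e⟩ := hterm i hi
    obtain ⟨e'⟩ := nonempty_tensor_sigma e M'
    obtain ⟨c⟩ := nonempty_T_comp r S (show (t : ℤ) + (0 + (i : ℤ)) = ((t + i : ℕ) : ℤ) by push_cast; ring)
    obtain ⟨hq, hv⟩ := D.congr (c.app M).symm (h i hi)
    obtain ⟨hq', hv'⟩ := D.congr_sigma e' hq
    exact ⟨hq', hv'.trans (congrArg (_ • ·) hv)⟩
  -- the cycles are vector bundles
  have hcyc : ∀ (k j : ℕ), j + k = r + 1 → FlatMod.IsFinLocFree (E.cycles j) := by
    intro k
    induction k with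
    | zero =>
      intro j hj
      haveI := isIso_iCycles E (j : ℤ) (hzE _ (by omega))
      exact isFinLocFree_iso (asIso (E.iCycles (j : ℤ))).symm (hflfE _)
    | succ k ih =>
      intro j hj
      exact isFinLocFree_of_shortExact (shortExact_cySC E hE (j : ℤ) ((j + 1 : ℕ) : ℤ) (by push_cast; rfl))
        (hflfE _) (ih (j + 1) (by omega))
  have key : ∀ j : ℕ, j ≤ r + 1 → D.Q (E.cycles j) ∧
      ((-1 : ℤ) ^ j) • D.val (E.cycles j) = -∑ i ∈ Finset.range j, ((-1 : ℤ) ^ i * ((r + 1).choose i : ℤ)) •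
        D.val ((T r S ((t + i : ℕ) : ℤ)).obj M) := by
    intro j
    induction j with
    | zero =>
      intro _
      have hz : IsZero (E.cycles ((0 : ℕ) : ℤ)) := isZero_cycles_zero E hE (hzE (-1) (by omega))
      exact ⟨D.zero hz, by rw [D.val_isZero hz]; simp⟩
    | succ j ih =>
      intro hj
      obtain ⟨hq, hv⟩ := ih (by omega)
      obtain ⟨hqX, hvX⟩ := hX j (by omega)
      have hs := shortExact_cySC E hE (j : ℤ) ((j + 1 : ℕ) : ℤ) (by push_cast; rfl)
      have hq3 : D.Q (E.cycles ((j + 1 : ℕ) : ℤ)) := D.third hs hq hqX (hcyc (r - j) (j + 1) (by omega))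
      refine ⟨hq3, ?_⟩
      have h3 : D.val (E.cycles ((j + 1 : ℕ) : ℤ)) = D.val (E.X (j : ℤ)) - D.val (E.cycles (j : ℤ)) :=
        eq_sub_iff_add_eq'.2 (D.val_add hs hq hqX hq3).symm
      rw [h3, hvX, Finset.sum_range_succ, neg_add, ← hv, pow_succ, mul_smul, neg_one_smul, neg_sub, smul_sub,
        mul_smul, smul_smul ((-1 : ℤ) ^ j)]
      abel
  obtain ⟨hq, hv⟩ := key (r + 1) le_rfl
  obtain ⟨hqX, hvX⟩ := hX (r + 1) le_rfl
  haveI := isIso_iCycles E ((r + 1 : ℕ) : ℤ) (hzE _ (by omega))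
  have hiso := (D.congr (asIso (E.iCycles ((r + 1 : ℕ) : ℤ))) hq).2
  rw [← hiso, hvX, smul_smul] at hv
  rw [Recur.rec', Finset.sum_range_succ]
  exact (congrArg (_ + ·) hv).trans (add_neg_cancel _)

/-- The invariant. -/
def inv (M : (P).Modules) : G :=
  open Classical in
  if h : FlatMod.IsFinLocFree M then
    Recur.ext (r + 1) (D.ev h).choose (fun j => D.val ((T r S (j : ℤ)).obj M))
  else 0

theorem inv_eq {M : (P).Modules} (hM : FlatMod.IsFinLocFree M) {m : ℕ}
    (h : ∀ j : ℕ, m ≤ j → D.Q ((T r S (j : ℤ)).obj M)) :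
    D.inv M = Recur.ext (r + 1) m (fun j => D.val ((T r S (j : ℤ)).obj M)) := by
  rw [inv, dif_pos hM]
  have h' := (D.ev hM).choose_spec
  have hrec : ∀ (a : ℕ), (∀ j : ℕ, a ≤ j → D.Q ((T r S (j : ℤ)).obj M)) → ∀ t, a ≤ t →
      Recur.rec' (r + 1) (fun j => D.val ((T r S (j : ℤ)).obj M)) t = 0 :=
    fun a ha t ht => D.rec_val hM t fun i _ => ha (t + i) (by omega)
  rw [← Recur.ext_of_le (r + 1) (le_max_left (D.ev hM).choose m) (hrec _ h'),
    Recur.ext_of_le (r + 1) (le_max_right (D.ev hM).choose m) (hrec _ h)]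

/-- Where all twists are defined, the invariant is the value. -/
theorem inv_eq_val {M : (P).Modules} (hM : FlatMod.IsFinLocFree M)
    (h : ∀ j : ℕ, D.Q ((T r S (j : ℤ)).obj M)) : D.inv M = D.val M := by
  rw [D.inv_eq hM (m := 0) fun j _ => h j]
  obtain ⟨z⟩ := nonempty_T_zero r S
  exact ((D.congr (z.app M) (h 0)).2).symm

theorem exists_hom : ∃ g : SGA6.Kvb (P) →+ G, ∀ M, FlatMod.IsFinLocFree M → g (KRR.cl (P) M) = D.inv M := by
  refine exists_lift D.inv fun {E} hE h₁ h₂ h₃ => ?_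
  obtain ⟨m₁, hm₁⟩ := D.ev h₁
  obtain ⟨m₂, hm₂⟩ := D.ev h₂
  obtain ⟨m₃, hm₃⟩ := D.ev h₃
  let m := max m₁ (max m₂ m₃)
  rw [D.inv_eq h₁ (m := m) fun j hj => hm₁ j (by omega), D.inv_eq h₂ (m := m) fun j hj => hm₂ j (by omega),
    D.inv_eq h₃ (m := m) fun j hj => hm₃ j (by omega), ← Recur.ext_add]
  refine Recur.ext_congr _ _ fun j hj => ?_
  exact D.val_add (hE.map_of_exact (T r S (j : ℤ))) (hm₁ j (by omega)) (hm₂ j (by omega)) (hm₃ j (by omega))

end EvData

/-- Twists as an endomorphism of the Grothendieck group. -/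
def twK (r : ℕ) (S : Scheme.{u}) (d : ℤ) : SGA6.Kvb (KRR.PY r S) →+ SGA6.Kvb (KRR.PY r S) :=
  SGA6.mapSub (T r S d) (fun M => FlatMod.IsFinLocFree M) (fun M => FlatMod.IsFinLocFree M)
    fun _ h => isFinLocFree_T d h

theorem twK_cl (d : ℤ) {M : (P).Modules} (h : FlatMod.IsFinLocFree M) :
    twK r S d (KRR.cl (P) M) = KRR.cl (P) ((T r S d).obj M) :=
  KRRAmple.mapSub_cl (T r S d) _ _ _ h

end Groth.Agent.RegLib
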