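import Groth.Agent.RegLib.KData
import Groth.Agent.KZeroLib.Heart

/-!
# Grothendieck groups of vector bundles on projective space over a quasi-compact scheme
-/

set_option autoImplicit false
set_option linter.style.haveILetI false
set_option linter.unusedSectionVars false
set_option maxHeartbeats 1000000
set_option backward.isDefEq.respectTransparency false

universe u v w

open CategoryTheory CategoryTheory.Limits AlgebraicGeometry TopologicalSpace Opposite
open Groth.Agent.DCohLib Groth.Agent.DCohMore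

attribute [local instance] HasDerivedCategory.standard

noncomputable section

namespace Groth.Agent.RegLib

open Groth.Agent.DCohMore.TwistOver

theorem mk_of {C : Type w} [Category.{v} C] [Abelian C] {Q : ObjectProperty C} (Z : Subtype Q) :
    (QuotientAddGroup.mk (FreeAbelianGroup.of Z) : KZero.K0sub Q) = KZero.clSub Q Z.1 :=
  (K0ResLib.clSub_of Z.2).symm

variable {r : ℕ} {S : Scheme.{u}}

local notation "P" => KRR.PY r S
local notation "π" => KRR.pr r S

variable (r S) in
/-- All vector bundles, with their classes. -/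
def allData : EvData r S (SGA6.Kvb (KRR.PY r S)) where
  Q M := FlatMod.IsFinLocFree M
  val M := KRR.cl (P) M
  flf h := h
  zero h := isFinLocFree_of_isZero h
  val_add hE h₁ h₂ h₃ := K0ResLib.clSub_add hE h₁ h₂ h₃
  third _ _ _ h₃ := h₃
  mid hE h₁ h₃ := isFinLocFree_mid hE h₁ h₃
  ev hM := ⟨0, fun _ _ => isFinLocFree_T _ hM⟩

variable [CompactSpace S]

/-- The class map from regular bundles to bundles. -/
theorem exists_incl : ∃ f : KZero.K0sub (fun M : (P).Modules => FlatMod.IsFinLocFree M ∧ KRR.IsRegSheaf r S M) →+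
    SGA6.Kvb (P), ∀ M, FlatMod.IsFinLocFree M ∧ KRR.IsRegSheaf r S M →
      f (KZero.clSub _ M) = KRR.cl (P) M :=
  exists_lift (fun M => KRR.cl (P) M) fun hE h₁ h₂ h₃ => K0ResLib.clSub_add hE h₁.1 h₂.1 h₃.1

/-- Every class is a combination of regular classes. -/
theorem incl_inv {f : KZero.K0sub (fun M : (P).Modules => FlatMod.IsFinLocFree M ∧ KRR.IsRegSheaf r S M) →+
    SGA6.Kvb (P)} (hf : ∀ M, FlatMod.IsFinLocFree M ∧ KRR.IsRegSheaf r S M → f (KZero.clSub _ M) = KRR.cl (P) M)
    {M : (P).Modules} (hM : FlatMod.IsFinLocFree M) : f ((regData r S).inv M) = KRR.cl (P) M := by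
  obtain ⟨m, hm⟩ := exists_pos_bound hM
  rw [(regData r S).inv_eq hM (m := m) hm, Recur.ext_map]
  refine (Recur.ext_congr (r + 1) m (w := fun j => KRR.cl (P) ((T r S (j : ℤ)).obj M)) fun j hj => hf _ (hm j hj)).trans ?_
  exact ((allData r S).inv_eq hM (m := m) fun j _ => isFinLocFree_T _ hM).symm.trans
    ((allData r S).inv_eq_val hM fun j => isFinLocFree_T _ hM)

/-- Regular bundles compute the Grothendieck group. -/
theorem bijective_incl {f : KZero.K0sub (fun M : (P).Modules => FlatMod.IsFinLocFree M ∧ KRR.IsRegSheaf r S M) →+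
    SGA6.Kvb (P)} (hf : ∀ M, FlatMod.IsFinLocFree M ∧ KRR.IsRegSheaf r S M → f (KZero.clSub _ M) = KRR.cl (P) M) :
    Function.Bijective f := by
  obtain ⟨g, hg⟩ := (regData r S).exists_hom
  have h1 : g.comp f = AddMonoidHom.id _ := by
    refine QuotientAddGroup.addMonoidHom_ext _ (FreeAbelianGroup.lift_ext _ _ fun Z => ?_)
    show g (f (QuotientAddGroup.mk (FreeAbelianGroup.of Z))) = QuotientAddGroup.mk (FreeAbelianGroup.of Z)
    rw [mk_of Z, hf Z.1 Z.2, hg Z.1 Z.2.1]
    exact (regData r S).inv_eq_val Z.2.1 fun j => ⟨isFinLocFree_T _ Z.2.1, isReg_T_nat Z.2.2 j⟩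
  have h2 : f.comp g = AddMonoidHom.id _ := KRRAmple.addMonoidHom_ext_cl fun M hM => by
    show f (g (KRR.cl (P) M)) = KRR.cl (P) M
    rw [hg M hM, incl_inv hf hM]
  exact Function.bijective_iff_has_inverse.2 ⟨g, DFunLike.congr_fun h1, DFunLike.congr_fun h2⟩

/-- The direct image on classes. -/
theorem exists_pushK : ∃ φ : SGA6.Kvb (P) →+ SGA6.Kvb S, ∀ M, FlatMod.IsFinLocFree M →
    (∀ j : ℕ, ∀ q : ℤ, 1 ≤ q → Van r S q j M) →
      φ (KRR.cl (P) M) = KRR.cl S ((Scheme.Modules.pushforward π).obj M) := by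
  obtain ⟨φ, hφ⟩ := (pushData r S).exists_hom
  exact ⟨φ, fun M hM h => (hφ M hM).trans ((pushData r S).inv_eq_val hM fun j =>
    ⟨isFinLocFree_T _ hM, fun q hq => (van_T (show (j : ℤ) + 0 = j by simp) M).2 (h j q hq)⟩)⟩

/-- Twisted inverse images from the base. -/
abbrev pullT (r : ℕ) (S : Scheme.{u}) (d : ℤ) (M : S.Modules) : (KRR.PY r S).Modules :=
  (T r S d).obj ((Scheme.Modules.pullback (KRR.pr r S)).obj M)

theorem isFinLocFree_pullT (d : ℤ) {M : S.Modules} (hM : FlatMod.IsFinLocFree M) :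
    FlatMod.IsFinLocFree (pullT r S d M) :=
  isFinLocFree_T d (PullbackMod.isFinLocFree_pullback π _ hM)

theorem van_pullT (d : ℤ) (hd : -(r : ℤ) ≤ d) {M : S.Modules} (hM : FlatMod.IsFinLocFree M) (j : ℕ) (q : ℤ)
    (hq : 1 ≤ q) : Van r S q j (pullT r S d M) := by
  have hMq := (PullbackMod.isQCoh_and_isFP_of_isFinLocFree M hM).1
  refine (van_T (rfl : d + (j : ℤ) = d + j) _).2 ?_
  rcases lt_or_ge (d + (j : ℤ)) 0 with h | h
  · exact van_pullback_window M hMq h (by omega) q
  · exact van_of_isReg (isReg_pullback M hMq) hq (by omega)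

theorem isZero_push_pullT (d : ℤ) (h₀ : d < 0) (hd : -(r : ℤ) ≤ d) {M : S.Modules}
    (hM : FlatMod.IsFinLocFree M) : IsZero ((Scheme.Modules.pushforward π).obj (pullT r S d M)) :=
  IsZero.of_iso (van_pullback_window M (PullbackMod.isQCoh_and_isFP_of_isFinLocFree M hM).1 h₀ hd 0)
    ((PushZero.zeroIso π).app _)

theorem nonempty_push_pullT_zero {M : S.Modules} (hM : FlatMod.IsFinLocFree M) :
    Nonempty ((Scheme.Modules.pushforward π).obj (pullT r S 0 M) ≅ M) := by
  haveI := isIso_unit_mod (r := r) M (PullbackMod.isQCoh_and_isFP_of_isFinLocFree M hM).1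
  obtain ⟨e⟩ := nonempty_push_T_zero (r := r) ((Scheme.Modules.pullback π).obj M)
  exact ⟨e ≪≫ (asIso ((Scheme.Modules.pullbackPushforwardAdjunction π).unit.app M)).symm⟩

theorem cl_iso {X : Scheme.{u}} {M N : X.Modules} (e : M ≅ N) (hM : FlatMod.IsFinLocFree M) :
    KRR.cl X N = KRR.cl X M := by
  have hz : IsZero (cokernel e.hom) := isZero_cokernel_of_epi e.hom
  have hS : (ShortComplex.mk e.hom (cokernel.π e.hom) (cokernel.condition _)).ShortExact :=
    { exact := ShortComplex.exact_of_g_is_cokernel _ (cokernelIsCokernel _) }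
  have h := K0ResLib.clSub_add hS (hM : KRR.vbP X M) (isFinLocFree_iso e hM) (isFinLocFree_of_isZero hz)
  rw [show KRR.cl X N = _ from h, show KZero.clSub (KRR.vbP X) (cokernel e.hom) = 0 from KZeroLib.clSub_isZero hz, add_zero]

theorem isFinLocFree_syz (F : RegObj r S) (hF : FlatMod.IsFinLocFree F.obj) :
    ∀ k, FlatMod.IsFinLocFree (syz F k).obj ∧ FlatMod.IsFinLocFree (syzPush F k) := by
  have push : ∀ Y : RegObj r S, FlatMod.IsFinLocFree Y.obj →
      FlatMod.IsFinLocFree ((Scheme.Modules.pushforward π).obj Y.obj) := fun Y hY =>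
    IsAcyclic.push ⟨hY, fun q hq => van_of_isReg Y.reg hq (by omega)⟩
  intro k
  induction k with
  | zero => exact ⟨hF, push F hF⟩
  | succ k ih =>
    have h : FlatMod.IsFinLocFree (syz F (k + 1)).obj := isFinLocFree_T 1
      (isFinLocFree_of_shortExact (shortExact_ev (syz F k)) (PullbackMod.isFinLocFree_pullback π _ ih.2) ih.1)
    exact ⟨h, push (syz F (k + 1)) h⟩

/-- The subgroup spanned by the twisted inverse images in a window. -/
theorem cl_mem_window {H : AddSubgroup (SGA6.Kvb (P))}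
    (hH : ∀ (k : ℕ), k ≤ r → ∀ M : S.Modules, FlatMod.IsFinLocFree M → KRR.cl (P) (pullT r S (-(k : ℤ)) M) ∈ H)
    (x : SGA6.Kvb (P)) : x ∈ H := by
  obtain ⟨f, hf⟩ := exists_incl (r := r) (S := S)
  have hreg : ∀ M : (P).Modules, FlatMod.IsFinLocFree M ∧ KRR.IsRegSheaf r S M → KRR.cl (P) M ∈ H := by
    rintro M ⟨hM, hreg⟩
    let F : RegObj r S := ⟨M, (PullbackMod.isQCoh_and_isFP_of_isFinLocFree M hM).1, hreg⟩
    have hflf := isFinLocFree_syz F hM
    have hc : ∀ k, FlatMod.IsFinLocFree (resCycle F k) := fun k => isFinLocFree_T _ (hflf k).1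
    have key : ∀ n k : ℕ, k + n = r + 1 → KRR.cl (P) (resCycle F k) ∈ H := by
      intro n
      induction n with
      | zero =>
        intro k hk
        rw [show KRR.cl (P) (resCycle F k) = 0 from
          KZeroLib.clSub_isZero ((T r S _).map_isZero (isZero_syz F k (by omega)))]
        exact H.zero_mem
      | succ n ih =>
        intro k hk
        obtain ⟨a, b, w, hse⟩ := exists_ses F k
        have h2 : FlatMod.IsFinLocFree (resTerm F k) := isFinLocFree_pullT _ (hflf k).2
        have h := K0ResLib.clSub_add hse (hc (k + 1)) h2 (hc k)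
        rw [show KRR.cl (P) (resCycle F k) = KRR.cl (P) (resTerm F k) - KRR.cl (P) (resCycle F (k + 1)) from
          eq_sub_iff_add_eq'.2 h.symm]
        exact H.sub_mem (hH k (by omega) _ (hflf k).2) (ih (k + 1) (by omega))
    obtain ⟨z⟩ := nonempty_T_zero r S
    have h0 := key (r + 1) 0 (by omega)
    rwa [← cl_iso (show resCycle F 0 ≅ M from eqToIso (by simp [resCycle, syz]; rfl) ≪≫ z.app M) (hc 0)] at h0
  obtain ⟨y, rfl⟩ := (bijective_incl hf).2 x
  induction y using QuotientAddGroup.induction_on with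
  | _ y =>
    induction y using FreeAbelianGroup.induction_on with
    | zero => simp
    | of Z =>
      rw [mk_of Z, hf _ Z.2]
      exact hreg _ Z.2
    | neg Z ih => rw [QuotientAddGroup.mk_neg, map_neg]; exact H.neg_mem ih
    | add a b ha hb => rw [QuotientAddGroup.mk_add, map_add]; exact H.add_mem ha hb

/-- Homomorphisms agreeing on the window agree. -/
theorem hom_ext_window {G : Type*} [AddCommGroup G] {f g : SGA6.Kvb (P) →+ G}
    (h : ∀ (k : ℕ), k ≤ r → ∀ M : S.Modules, FlatMod.IsFinLocFree M →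
      f (KRR.cl (P) (pullT r S (-(k : ℤ)) M)) = g (KRR.cl (P) (pullT r S (-(k : ℤ)) M))) : f = g :=
  AddMonoidHom.ext fun x => cl_mem_window (H := f.eqLocus g) h x

/-- The Grothendieck group is free on the twists. -/
theorem bijective_twists (A : Fin (r + 1) → (SGA6.Kvb S →+ SGA6.Kvb (P)))
    (hA : ∀ (i : Fin (r + 1)) (M : S.Modules), FlatMod.IsFinLocFree M →
      A i (KRR.cl S M) = KRR.cl (P) (pullT r S ((i : ℕ) : ℤ) M)) :
    Function.Bijective (fun x : Fin (r + 1) → SGA6.Kvb S => ∑ i, A i (x i)) := by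
  obtain ⟨φ, hφ⟩ := exists_pushK (r := r) (S := S)
  let Φ : ℕ → (SGA6.Kvb (P) →+ SGA6.Kvb S) := fun j => φ.comp (twK r S (-(j : ℤ)))
  have hval : ∀ (j : ℕ) (i : Fin (r + 1)), j ≤ r → (i : ℕ) ≤ j → ∀ M : S.Modules, FlatMod.IsFinLocFree M →
      Φ j (A i (KRR.cl S M)) = if (i : ℕ) = j then KRR.cl S M else 0 := by
    intro j i hj hij M hM
    show φ (twK r S (-(j : ℤ)) (A i (KRR.cl S M))) = _
    rw [hA i M hM, twK_cl _ (isFinLocFree_pullT _ hM)]
    obtain ⟨t⟩ := nonempty_T_comp r S (show ((i : ℕ) : ℤ) + -(j : ℤ) = ((i : ℕ) : ℤ) - j by ring)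
    have e : (T r S (-(j : ℤ))).obj (pullT r S ((i : ℕ) : ℤ) M) ≅ pullT r S (((i : ℕ) : ℤ) - j) M := t.app _
    rw [← cl_iso e (isFinLocFree_T _ (isFinLocFree_pullT _ hM)),
      hφ _ (isFinLocFree_pullT _ hM) fun k q hq => van_pullT _ (by omega) hM k q hq]
    rcases eq_or_lt_of_le hij with h | h
    · rw [if_pos h, h, sub_self]
      obtain ⟨e₀⟩ := nonempty_push_pullT_zero (r := r) hM
      exact (cl_iso e₀.symm hM)
    · rw [if_neg (by omega)]
      exact KZeroLib.clSub_isZero (isZero_push_pullT _ (by omega) (by omega) hM)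
  have hΦ : ∀ (j : ℕ) (i : Fin (r + 1)), j ≤ r → (i : ℕ) ≤ j → ∀ y : SGA6.Kvb S,
      Φ j (A i y) = if (i : ℕ) = j then y else 0 := by
    intro j i hj hij y
    split_ifs with h
    · exact DFunLike.congr_fun (KRRAmple.addMonoidHom_ext_cl (g := (Φ j).comp (A i)) (h := AddMonoidHom.id _)
        fun M hM => (hval j i hj hij M hM).trans (if_pos h)) y
    · exact DFunLike.congr_fun (KRRAmple.addMonoidHom_ext_cl (g := (Φ j).comp (A i)) (h := 0)
        fun M hM => (hval j i hj hij M hM).trans (if_neg h)) y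
  let Ψ : (Fin (r + 1) → SGA6.Kvb S) →+ SGA6.Kvb (P) :=
    ∑ i, (A i).comp (Pi.evalAddMonoidHom (fun _ : Fin (r + 1) => SGA6.Kvb S) i)
  have hΨ : ∀ x, Ψ x = ∑ i, A i (x i) := fun x => by simp [Ψ]
  constructor
  · show Function.Injective _
    simp only [← hΨ]
    refine (injective_iff_map_eq_zero Ψ).2 fun x hx => ?_
    have key : ∀ (n : ℕ) (j : Fin (r + 1)), (j : ℕ) + n = r → x j = 0 := by
      intro n
      induction n using Nat.strong_induction_on with
      | _ n ih =>
        intro j hj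
        have h := congrArg (Φ j) hx
        rw [hΨ, map_sum, map_zero, Finset.sum_eq_single j] at h
        · rwa [hΦ _ j (by omega) le_rfl, if_pos rfl] at h
        · intro i _ hij
          have hne : (i : ℕ) ≠ (j : ℕ) := fun h => hij (Fin.ext h)
          rcases lt_or_gt_of_ne hne with hlt | hgt
          · rw [hΦ _ i (by omega) hlt.le, if_neg hne]
          · rw [ih (r - (i : ℕ)) (by omega) i (by omega), map_zero, map_zero]
        · simp
    exact funext fun j => key (r - (j : ℕ)) j (by omega)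
  · intro x
    let H : AddSubgroup (SGA6.Kvb (P)) := (Ψ.range).comap (twK r S (r : ℤ))
    have hH : ∀ y, y ∈ H := cl_mem_window (H := H) fun k hk M hM => by
      refine ⟨Pi.single ⟨r - k, by omega⟩ (KRR.cl S M), ?_⟩
      rw [hΨ, Finset.sum_eq_single (⟨r - k, by omega⟩ : Fin (r + 1)), Pi.single_eq_same, hA _ M hM,
        twK_cl _ (isFinLocFree_pullT _ hM)]
      · obtain ⟨t⟩ := nonempty_T_comp r S (show -(k : ℤ) + (r : ℤ) = ((r - k : ℕ) : ℤ) by omega)
        exact cl_iso (t.app _ : (T r S (r : ℤ)).obj (pullT r S (-(k : ℤ)) M) ≅ pullT r S ((r - k : ℕ) : ℤ) M)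
          (isFinLocFree_T _ (isFinLocFree_pullT _ hM))
      · intro i _ hi
        rw [Pi.single_eq_of_ne hi, map_zero]
      · simp
    obtain ⟨z, hz⟩ := hH (twK r S (-(r : ℤ)) x)
    refine ⟨z, (hΨ z).symm.trans (hz.trans ?_)⟩
    refine DFunLike.congr_fun (KRRAmple.addMonoidHom_ext_cl (g := (twK r S (r : ℤ)).comp (twK r S (-(r : ℤ))))
      (h := AddMonoidHom.id _) fun M hM => ?_) x
    show twK r S (r : ℤ) (twK r S (-(r : ℤ)) (KRR.cl (P) M)) = KRR.cl (P) M
    rw [twK_cl _ hM, twK_cl _ (isFinLocFree_T _ hM)]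
    obtain ⟨t⟩ := nonempty_T_comp r S (show -(r : ℤ) + (r : ℤ) = 0 by ring)
    obtain ⟨z₀⟩ := nonempty_T_zero r S
    exact (cl_iso ((t ≪≫ z₀).app M) (isFinLocFree_T _ (isFinLocFree_T _ hM))).symm

end Groth.Agent.RegLib
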