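import Groth.Agent.RegLib.KGroup

/-!
# The direct image and regular data on vector bundles
-/

set_option autoImplicit false
set_option linter.style.haveILetI false
set_option linter.unusedSectionVars false
set_option maxHeartbeats 1000000
set_option backward.isDefEq.respectTransparency false

universe u v w

open CategoryTheory CategoryTheory.Limits AlgebraicGeometry TopologicalSpace Opposite
open Groth.Agent.DCohLib Groth.Agent.DCohMore

attribute [local instance] HasDerivedCategory.standard

noncomputable section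

namespace Groth.Agent.RegLib

open Groth.Agent.DCohMore.TwistOver

/-- An extension of vector bundles is a vector bundle. -/
theorem isFinLocFree_mid {X : Scheme.{u}} {E : ShortComplex X.Modules} (hE : E.ShortExact)
    (h₁ : FlatMod.IsFinLocFree E.X₁) (h₃ : FlatMod.IsFinLocFree E.X₃) : FlatMod.IsFinLocFree E.X₂ := by
  haveI := hE.epi_g
  refine isFinLocFree_of_local fun x => ?_
  obtain ⟨U, j, hj, y, hy, ψ, hψ⟩ := exists_local_lift
    (ShortComplex.mk E.g (0 : E.X₃ ⟶ E.X₃) comp_zero)
    ((ShortComplex.exact_iff_epi _ rfl).2 inferInstance) h₃ (𝟙 E.X₃) comp_zero x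
  let R := Scheme.Modules.restrictFunctor j
  have hS' : (E.map R).ShortExact := hE.map_of_exact R
  haveI := hS'.mono_f
  have sp : (E.map R).Splitting := ShortComplex.Splitting.ofExactOfSection _ hS'.exact ψ
    (by rw [CategoryTheory.Functor.map_id] at hψ; exact hψ) inferInstance
  exact ⟨U, j, hj, y, hy, isFinLocFree_iso sp.isoBinaryBiproduct.symm
    (isFinLocFree_biprod (isFinLocFree_restrict j h₁) (isFinLocFree_restrict j h₃))⟩

variable {r : ℕ} {S : Scheme.{u}}

local notation "P" => KRR.PY r S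
local notation "π" => KRR.pr r S

/-- Vector bundles without higher direct images. -/
def IsAcyclic (M : (P).Modules) : Prop :=
  FlatMod.IsFinLocFree M ∧ ∀ q : ℤ, 1 ≤ q → Van r S q 0 M

theorem nonempty_push_T_zero (M : (P).Modules) :
    Nonempty ((Scheme.Modules.pushforward π).obj ((T r S 0).obj M) ≅ (Scheme.Modules.pushforward π).obj M) := by
  obtain ⟨z⟩ := nonempty_T_zero r S
  exact ⟨(Scheme.Modules.pushforward π).mapIso (z.app M)⟩

theorem IsAcyclic.push {M : (P).Modules} (h : IsAcyclic M) :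
    FlatMod.IsFinLocFree ((Scheme.Modules.pushforward π).obj M) := by
  obtain ⟨e⟩ := nonempty_push_T_zero M
  exact isFinLocFree_iso e (isFinLocFree_push_T h.1 0 fun q hq => h.2 q (by omega))

theorem shortExact_push {E : ShortComplex (P).Modules} (hE : E.ShortExact) (h : Van r S 1 0 E.X₁) :
    (E.map (Scheme.Modules.pushforward π)).ShortExact := by
  haveI := hE.mono_f
  haveI : PreservesFiniteLimits (Scheme.Modules.pushforward π) :=
    haveI : PreservesLimitsOfSize.{u, u} (Scheme.Modules.pushforward π) :=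
      (Scheme.Modules.pullbackPushforwardAdjunction π).rightAdjoint_preservesLimits
    haveI : PreservesLimitsOfSize.{0, 0} (Scheme.Modules.pushforward π) := preservesLimitsOfSize_shrink _
    inferInstance
  obtain ⟨z⟩ := nonempty_T_zero r S
  exact { exact := hE.exact.map_of_mono_of_preservesKernel (Scheme.Modules.pushforward π) hE.mono_f inferInstance
          mono_f := inferInstanceAs (Mono ((Scheme.Modules.pushforward π).map E.f))
          epi_g := ((MorphismProperty.epimorphisms S.Modules).arrow_mk_iso_iff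
            (((Functor.mapArrowFunctor _ _).mapIso (Functor.isoWhiskerRight z (Scheme.Modules.pushforward π))).app
              (Arrow.mk E.g))).1 ((MorphismProperty.epimorphisms.iff _).2 (epi_of_van_one hE 0 h)) }

variable (r S) in
/-- Direct images of twists. -/
def pushData [CompactSpace S] : EvData r S (SGA6.Kvb S) where
  Q := IsAcyclic
  val M := KRR.cl S ((Scheme.Modules.pushforward π).obj M)
  flf h := h.1
  zero h := ⟨isFinLocFree_of_isZero h, fun q _ => van_of_module_isZero h q 0⟩
  val_add hE h₁ h₂ h₃ :=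
    K0ResLib.clSub_add
      (shortExact_push hE (h₁.2 1 le_rfl)) h₁.push h₂.push h₃.push
  third hE h₁ h₂ h₃ := ⟨h₃, fun q hq => van₃ hE q 0 (h₂.2 q hq) (h₁.2 (q + 1) (by omega))⟩
  mid hE h₁ h₃ := ⟨isFinLocFree_mid hE h₁.1 h₃.1, fun q hq => van₂ hE q 0 (h₁.2 q hq) (h₃.2 q hq)⟩
  ev hM := by
    obtain ⟨m, hm⟩ := exists_vanishing _ hM
    exact ⟨m, fun j hj => ⟨isFinLocFree_T _ hM, fun q hq =>
      (van_T (show (j : ℤ) + 0 = j by simp) _).2 (hm j (by exact_mod_cast hj) q hq)⟩⟩

theorem exists_dim_bound [CompactSpace S] :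
    ∃ N : ℕ, ∀ (M : (P).Modules), Coh.IsQCoh M → ∀ (q : ℕ) (d : ℤ), N < q → Van r S q d M := by
  obtain ⟨N, hN⟩ := exists_isLE_rpush_qcoh π
  refine ⟨N, fun M hM q d hq => ?_⟩
  haveI := hM
  have h := hN (DCoh.inD _ ((T r S d).obj M)) 0 (isQCohD_inD _ (isQCoh_T d M)) inferInstance
  exact (DerivedCategory.isLE_iff _ _).1 h q (by omega)

theorem exists_pos_bound [CompactSpace S] {M : (P).Modules} (hM : FlatMod.IsFinLocFree M) :
    ∃ m : ℕ, ∀ j : ℕ, m ≤ j → FlatMod.IsFinLocFree ((T r S (j : ℤ)).obj M) ∧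
      KRR.IsRegSheaf r S ((T r S (j : ℤ)).obj M) := by
  obtain ⟨m, hm⟩ := exists_vanishing _ hM
  obtain ⟨N, hN⟩ := exists_dim_bound (r := r) (S := S)
  refine ⟨m + N, fun j hj => ⟨isFinLocFree_T _ hM, (isReg_iff _).2 fun q hq => ?_⟩⟩
  refine (van_T (show (j : ℤ) + -(q : ℤ) = j - q by ring) _).2 ?_
  rcases le_or_gt q N with h | h
  · exact hm _ (by omega) q (by omega)
  · exact hN _ (PullbackMod.isQCoh_and_isFP_of_isFinLocFree _ hM).1 q _ (by omega)

variable (r S) in
/-- Regular vector bundles. -/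
def regData [CompactSpace S] : EvData r S
    (KZero.K0sub (fun M : (P).Modules => FlatMod.IsFinLocFree M ∧ KRR.IsRegSheaf r S M)) where
  Q M := FlatMod.IsFinLocFree M ∧ KRR.IsRegSheaf r S M
  val M := KZero.clSub (fun M : (P).Modules => FlatMod.IsFinLocFree M ∧ KRR.IsRegSheaf r S M) M
  flf h := h.1
  zero h := ⟨isFinLocFree_of_isZero h, (isReg_iff _).2 fun q _ => van_of_module_isZero h q _⟩
  val_add hE h₁ h₂ h₃ :=
    K0ResLib.clSub_add hE h₁ h₂ h₃
  third {E} hE h₁ h₂ h₃ := ⟨h₃, (isReg_iff _).2 fun q hq => van₃ hE q _ ((isReg_iff _).1 h₂.2 q hq)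
    (van_of_isReg h₁.2 (by omega) (by omega))⟩
  mid hE h₁ h₃ := ⟨isFinLocFree_mid hE h₁.1 h₃.1, (isReg_iff _).2 fun q hq => van₂ hE q _
    ((isReg_iff _).1 h₁.2 q hq) ((isReg_iff _).1 h₃.2 q hq)⟩
  ev hM := exists_pos_bound hM

end Groth.Agent.RegLib
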