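import Groth.Agent.RegLib.KPush

/-!
# Regular modules and base change
-/

set_option autoImplicit false
set_option linter.style.haveILetI false
set_option linter.unusedSectionVars false
set_option maxHeartbeats 1000000
set_option backward.isDefEq.respectTransparency false

universe u

open CategoryTheory CategoryTheory.Limits AlgebraicGeometry TopologicalSpace Opposite
open Groth.Agent.DCohLib Groth.Agent.DCohMore

attribute [local instance] HasDerivedCategory.standard

noncomputable section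

namespace Groth.Agent.RegLib

open Groth.Agent.DCohMore.TwistOver

/-- Derived inverse image preserves the bound above. -/
theorem isLE_lpull {X Y : Scheme.{u}} (f : X ⟶ Y) [DCoh.HasLpull f] (K : DCoh.D Y) (b : ℤ) [K.IsLE b] :
    ((DCoh.Lpull f).obj K).IsLE b := by
  let R := (resX Y).obj (DerivedCategory.Q.objPreimage K)
  have hR : DCoh.IsKFlat R := isKFlat_resX _
  refine (DerivedCategory.isLE_iff _ _).2 fun i hi => ?_
  refine IsZero.of_iso ((HomologicalComplex.exactAt_iff_isZero_homology _ _).1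
    (DCohLib.exactAt_pullback f hR (isFlat_resX _) (b + 1) (fun j hj => ?_) i (by omega))) ?_
  · exact (HomologicalComplex.exactAt_iff_isZero_homology _ _).2
      ((DerivedCategory.isZero_of_isLE K b j (by omega)).of_iso
        (((DerivedCategory.homologyFunctorFactors _ j).app R).symm ≪≫
          (DerivedCategory.homologyFunctor Y.Modules j).mapIso (resXIso K)))
  · exact (DerivedCategory.homologyFunctor X.Modules i).mapIso
      ((DCoh.Lpull f).mapIso (resXIso K).symm ≪≫ lpullIsoK f R hR) ≪≫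
        (DerivedCategory.homologyFunctorFactors _ i).app _

/-- The derived inverse image of a vector bundle is its inverse image. -/
theorem nonempty_lpull_inD_flf {X Y : Scheme.{u}} (f : X ⟶ Y) [DCoh.HasLpull f] {M : Y.Modules}
    (hM : FlatMod.IsFinLocFree M) :
    Nonempty ((DCoh.Lpull f).obj (DCoh.inD Y M) ≅ DCoh.inD X ((Scheme.Modules.pullback f).obj M)) :=
  ⟨(DCoh.Lpull f).mapIso ((DerivedCategory.singleFunctorIsoCompQ Y.Modules 0).app M) ≪≫
    lpullIsoK f ((CochainComplex.singleFunctor Y.Modules 0).obj M)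
      (isKFlat_of_strictlyPerfect (isStrictlyPerfect_single hM)) ≪≫
    DerivedCategory.Q.mapIso
      ((HomologicalComplex.singleMapHomologicalComplex (Scheme.Modules.pullback f) (ComplexShape.up ℤ) 0).app M) ≪≫
    ((DerivedCategory.singleFunctorIsoCompQ X.Modules 0).app _).symm⟩

variable {r : ℕ} {Y Y₁ : Scheme.{u}} (φ : Y₁ ⟶ Y)

local notation "ψ" => KRR.projSpaceMap r φ

theorem projSpaceMap_fst : ψ ≫ pullback.fst (CohB1.ProjSpace.toSpec r (ULift.{u} ℤ)) (specULiftZIsTerminal.from Y) =
    pullback.fst (CohB1.ProjSpace.toSpec r (ULift.{u} ℤ)) (specULiftZIsTerminal.from Y₁) :=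
  (pullback.lift_fst _ _ _).trans (Category.comp_id _)

theorem projSpaceMap_pr : ψ ≫ KRR.pr r Y = KRR.pr r Y₁ ≫ φ :=
  pullback.lift_snd _ _ _

theorem isPullback_projSpaceMap : IsPullback ψ (KRR.pr r Y₁) (KRR.pr r Y) φ := by
  refine IsPullback.of_right ?_ (projSpaceMap_pr φ) (IsPullback.of_hasPullback _ _)
  rw [projSpaceMap_fst, show φ ≫ specULiftZIsTerminal.from Y = specULiftZIsTerminal.from Y₁ from
    specULiftZIsTerminal.hom_ext _ _]
  exact IsPullback.of_hasPullback _ _

theorem nonempty_pullback_O (d : ℤ) : Nonempty ((Scheme.Modules.pullback ψ).obj (O r Y d) ≅ O r Y₁ d) :=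
  ⟨(Scheme.Modules.pullbackComp ψ _).app _ ≪≫ (Scheme.Modules.pullbackCongr (projSpaceMap_fst φ)).app _⟩

theorem nonempty_pullback_T (d : ℤ) (M : (KRR.PY r Y).Modules) :
    Nonempty ((Scheme.Modules.pullback ψ).obj ((T r Y d).obj M) ≅ (T r Y₁ d).obj ((Scheme.Modules.pullback ψ).obj M)) := by
  obtain ⟨e⟩ := nonempty_pullback_O (r := r) φ d
  exact ⟨((pullTensorBiIsoSch ψ).app (O r Y d)).app M ≪≫
    ((DCoh.tensorBi (X := KRR.PY r Y₁)).mapIso e).app _⟩

/-- Base change for direct images of vector bundles. -/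
theorem nonempty_bc [DCoh.HasLpull φ] {M : (KRR.PY r Y).Modules} (hM : FlatMod.IsFinLocFree M) :
    Nonempty ((DCoh.Lpull φ).obj ((DCoh.Rpush (KRR.pr r Y)).obj (DCoh.inD _ M)) ≅
      (DCoh.Rpush (KRR.pr r Y₁)).obj (DCoh.inD _ ((Scheme.Modules.pullback ψ).obj M))) := by
  haveI := hasLpull ψ
  haveI := BC.hasRpush φ
  haveI := BC.hasRpush ψ
  obtain ⟨e, he⟩ := BC.exists_iso_baseChange (KRR.pr r Y) φ (KRR.pr r Y₁) ψ (isPullback_projSpaceMap φ)
    (BC.TI.of_flat_left (f := KRR.pr r Y) (g := φ)) (lpullRpushAdj φ) (lpullRpushAdj ψ)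
  obtain ⟨l⟩ := nonempty_lpull_inD_flf ψ hM
  haveI := he (DCoh.inD _ M) (isQCohD_inD M (PullbackMod.isQCoh_and_isFP_of_isFinLocFree M hM).1)
  exact ⟨asIso (DCoh.baseChangeApp (lpullRpushAdj φ) (lpullRpushAdj ψ) e (DCoh.inD _ M)) ≪≫
    (DCoh.Rpush (KRR.pr r Y₁)).mapIso l⟩

theorem van_bc {M : (KRR.PY r Y).Modules} (hM : FlatMod.IsFinLocFree M) {q d : ℤ}
    (h : ∀ q' : ℤ, q ≤ q' → Van r Y q' d M) : Van r Y₁ q d ((Scheme.Modules.pullback ψ).obj M) := by
  haveI := hasLpull φ
  obtain ⟨e⟩ := nonempty_bc φ (isFinLocFree_T (r := r) (S := Y) d hM)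
  obtain ⟨t⟩ := nonempty_pullback_T φ d M
  haveI : (W r Y d M).IsLE (q - 1) := (DerivedCategory.isLE_iff _ _).2 fun i hi => h i (by omega)
  haveI := isLE_lpull φ (W r Y d M) (q - 1)
  exact (DerivedCategory.isZero_of_isLE ((DCoh.Lpull φ).obj (W r Y d M)) (q - 1) q (by omega)).of_iso
    ((DerivedCategory.homologyFunctor Y₁.Modules q).mapIso
      ((DCoh.Rpush (KRR.pr r Y₁)).mapIso ((DerivedCategory.singleFunctor _ 0).mapIso t.symm) ≪≫ e.symm))

/-- Regularity is stable under base change. -/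
theorem isReg_bc {M : (KRR.PY r Y).Modules} (hM : FlatMod.IsFinLocFree M) (h : KRR.IsRegSheaf r Y M) :
    KRR.IsRegSheaf r Y₁ ((Scheme.Modules.pullback ψ).obj M) :=
  (isReg_iff _).2 fun q hq => van_bc φ hM fun q' hq' => van_of_isReg h (by omega) (by omega)

/-- The kernel of the counit of a regular module has no direct images. -/
theorem van_kernel_ev {F : (KRR.PY r Y).Modules} (hF : Coh.IsQCoh F) (hreg : KRR.IsRegSheaf r Y F) (q : ℤ) :
    Van r Y q 0 (kernel (ev F)) := by
  haveI := epi_ev hF hreg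
  rcases lt_trichotomy q 0 with h | rfl | h
  · exact van_of_neg h _ _
  · obtain ⟨z⟩ := nonempty_T_zero r Y
    haveI : PreservesFiniteLimits (Scheme.Modules.pushforward (KRR.pr r Y)) :=
      haveI : PreservesLimitsOfSize.{u, u} (Scheme.Modules.pushforward (KRR.pr r Y)) :=
        (Scheme.Modules.pullbackPushforwardAdjunction (KRR.pr r Y)).rightAdjoint_preservesLimits
      haveI : PreservesLimitsOfSize.{0, 0} (Scheme.Modules.pushforward (KRR.pr r Y)) := preservesLimitsOfSize_shrink _
      inferInstance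
    have hu := isIso_unit_mod (r := r) ((Scheme.Modules.pushforward (KRR.pr r Y)).obj F) (isQCoh_push hF)
    haveI : IsIso ((Scheme.Modules.pushforward (KRR.pr r Y)).map (ev F)) := by
      haveI := hu
      haveI : IsIso ((Scheme.Modules.pullbackPushforwardAdjunction (KRR.pr r Y)).unit.app
          ((Scheme.Modules.pushforward (KRR.pr r Y)).obj F) ≫ (Scheme.Modules.pushforward (KRR.pr r Y)).map (ev F)) := by
        rw [(Scheme.Modules.pullbackPushforwardAdjunction (KRR.pr r Y)).right_triangle_components F]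
        infer_instance
      exact IsIso.of_isIso_comp_left ((Scheme.Modules.pullbackPushforwardAdjunction (KRR.pr r Y)).unit.app
          ((Scheme.Modules.pushforward (KRR.pr r Y)).obj F)) _
    have hz : IsZero ((Scheme.Modules.pushforward (KRR.pr r Y)).obj (kernel (ev F))) :=
      (isZero_kernel_of_mono ((Scheme.Modules.pushforward (KRR.pr r Y)).map (ev F))).of_iso
        (PreservesKernel.iso (Scheme.Modules.pushforward (KRR.pr r Y)) (ev F))
    exact (hz.of_iso ((Scheme.Modules.pushforward (KRR.pr r Y)).mapIso (z.app _))).of_iso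
      ((PushZero.zeroIso (KRR.pr r Y)).app _).symm
  · exact (van_T (show (1 : ℤ) + -1 = 0 by simp) _).1 (van_of_isReg (isReg_kernel hF hreg) (by omega) (by omega))

/-- The base change morphism of a regular bundle is an isomorphism. -/
theorem isIso_bc (hsq : KRR.projSpaceMap r φ ≫ KRR.pr r Y = KRR.pr r Y₁ ≫ φ) {F : (KRR.PY r Y).Modules}
    (hF : FlatMod.IsFinLocFree F) (hreg : KRR.IsRegSheaf r Y F)
    (hpush : FlatMod.IsFinLocFree ((Scheme.Modules.pushforward (KRR.pr r Y)).obj F)) :
    IsIso (KRR.bcMap r φ hsq F) := by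
  have hFq := (PullbackMod.isQCoh_and_isFP_of_isFinLocFree F hF).1
  haveI := epi_ev hFq hreg
  have hE : (ShortComplex.mk (kernel.ι (ev F)) (ev F) (kernel.condition _)).ShortExact :=
    { exact := ShortComplex.exact_kernel _ }
  have hK : FlatMod.IsFinLocFree (kernel (ev F)) :=
    isFinLocFree_of_shortExact hE (PullbackMod.isFinLocFree_pullback _ _ hpush) hF
  let E₁ := (ShortComplex.mk (kernel.ι (ev F)) (ev F) (kernel.condition _)).map (Scheme.Modules.pullback ψ)
  have hE₁ : E₁.ShortExact := shortExact_pullback_of_isFlat ψ _ hE (isFlat_of_flf hF)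
  have hv : ∀ q, Van r Y₁ q 0 E₁.X₁ := fun q => van_bc φ hK fun q' _ => van_kernel_ev hFq hreg q'
  have hs := shortExact_push hE₁ (hv 1)
  obtain ⟨z⟩ := nonempty_T_zero r Y₁
  have hz : IsZero ((Scheme.Modules.pushforward (KRR.pr r Y₁)).obj E₁.X₁) :=
    ((hv 0).of_iso ((PushZero.zeroIso (KRR.pr r Y₁)).app _)).of_iso
      ((Scheme.Modules.pushforward (KRR.pr r Y₁)).mapIso (z.app _).symm)
  haveI : IsIso ((Scheme.Modules.pushforward (KRR.pr r Y₁)).map ((Scheme.Modules.pullback ψ).map (ev F))) :=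
    hs.isIso_g_iff.2 hz
  have hu := isIso_unit_mod (r := r) ((Scheme.Modules.pullback φ).obj ((Scheme.Modules.pushforward (KRR.pr r Y)).obj F))
    (PullbackMod.isQCoh_and_isFP_of_isFinLocFree _ (PullbackMod.isFinLocFree_pullback φ _ hpush)).1
  unfold KRR.bcMap
  rw [Adjunction.homEquiv_unit]
  simp only [Functor.map_comp]
  haveI := hu
  infer_instance

end Groth.Agent.RegLib
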