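import Groth.Agent.RegLib.KData
import Groth.Agent.DCohMore.RelPerfTerms
import Groth.Agent.GenBCLib.TwistFP

/-!
# Vanishing for high twists of flat modules of finite presentation on projective space
-/

set_option autoImplicit false
set_option linter.style.haveILetI false
set_option linter.unusedSectionVars false
set_option maxHeartbeats 1000000
set_option backward.isDefEq.respectTransparency false

universe u

open CategoryTheory CategoryTheory.Limits AlgebraicGeometry TopologicalSpace Opposite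
open CategoryTheory.Pretriangulated
open Groth.Agent.DCohLib Groth.Agent.DCohMore

attribute [local instance] HasDerivedCategory.standard

noncomputable section

namespace Groth.Agent.RegLib

open Groth.Agent.DCohMore.TwistOver

/-- Pseudo-coherent modules. -/
def IsPCMod {X : Scheme.{u}} (F : X.Modules) : Prop := ∀ m : ℤ, DCoh.IsPseudoCoherentD m (DCoh.inD X F)

theorem isFT_of_pc {X : Scheme.{u}} {F : X.Modules} (h : IsPCMod F) : CohB1.IsFT F :=
  (isPC_inD_iff F).1.1 (h 0)

theorem isQCoh_of_pc {X : Scheme.{u}} {F : X.Modules} (h : IsPCMod F) : Coh.IsQCoh F :=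
  FibreDepth.isQCoh_of_isFP F ((isPC_inD_iff F).2.1 (h (-1)))

theorem isPC_of_flf {X : Scheme.{u}} {F : X.Modules} (h : FlatMod.IsFinLocFree F) : IsPCMod F :=
  fun m => ((isPerfect_iff_pc _).1 (isPerfect_inD h)).1 m

theorem isPC_of_shortExact {X : Scheme.{u}} {E : ShortComplex X.Modules} (hE : E.ShortExact)
    (h₂ : IsPCMod E.X₂) (h₃ : IsPCMod E.X₃) : IsPCMod E.X₁ :=
  fun m => by
    have h := isPseudoCoherentD_obj₁ _ hE.singleTriangle_distinguished (h₂ (m - 1 + 1)) (h₃ (m - 1))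
    rw [sub_add_cancel] at h
    exact h

/-- Flat modules of finite presentation are pseudo-coherent along flat finitely presented morphisms. -/
theorem isPC_of_fp_flat {X : Scheme.{u}} {R : CommRingCat.{u}} (f : X ⟶ Spec R) [Flat f]
    [LocallyOfFinitePresentation f] (F : X.Modules) (hF : CohB1.IsFP F) (hfl : FlatMod.IsFlatOver f F) :
    IsPCMod F := fun m => by
  refine isPseudoCoherentD_of_local fun x => ?_
  obtain ⟨_, ⟨V : X.Opens, hV, rfl⟩, hx, -⟩ :=
    X.isBasis_affineOpens.exists_subset_of_mem_open (Set.mem_univ x) isOpen_univ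
  obtain ⟨y, hy⟩ : x ∈ Set.range hV.fromSpec := by rw [hV.range_fromSpec]; exact hx
  refine ⟨_, hV.fromSpec, inferInstance, y, hy, ?_⟩
  obtain ⟨ψ, hψ⟩ : ∃ ψ : R ⟶ Γ(X, V), Spec.map ψ = hV.fromSpec ≫ f := ⟨Spec.preimage _, Spec.map_preimage _⟩
  haveI : Flat (Spec.map ψ) := by rw [hψ]; infer_instance
  haveI : LocallyOfFinitePresentation (Spec.map ψ) := by rw [hψ]; infer_instance
  let G := (Scheme.Modules.restrictFunctor hV.fromSpec).obj F
  have hflG : FlatMod.IsFlatOver (Spec.map ψ) G := fun z => by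
    rw [hψ]
    exact (isFlatOverAt_restrict_iff hV.fromSpec f F z).2 (hfl _)
  have hn : ∀ n, CohB1.IsFP ((sglM G).X n) ∧ FlatMod.IsFlatOver (Spec.map ψ) ((sglM G).X n) := fun n => by
    by_cases hn : n = 0
    · subst hn
      let e : (sglM G).X 0 ≅ G := HomologicalComplex.singleObjXSelf (ComplexShape.up ℤ) 0 G
      exact ⟨DCohLib.isFP_iso e.symm (DCohMore.isFP_restrict hV.fromSpec hF), isFlatOver_of_iso _ e.symm hflG⟩
    · have hz : IsZero ((sglM G).X n) := HomologicalComplex.isZero_single_obj_X _ _ _ _ hn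
      exact ⟨(PullbackMod.isQCoh_and_isFP_of_isFinLocFree _ (isFinLocFree_of_isZero hz)).2,
        TwistFam.isFlatOver_of_isFinLocFree _ (isFinLocFree_of_isZero hz)⟩
  have hab : DCoh.VanishesOutside (sglM G) 0 0 := fun i hi =>
    HomologicalComplex.isZero_single_obj_X _ _ _ _ (by omega)
  exact isPseudoCoherentD_iso
    (((DerivedCategory.singleFunctorIsoCompQ _ 0).app G).symm ≪≫
      (((Scheme.Modules.restrictFunctor hV.fromSpec).mapDerivedCategorySingleFunctor 0).app F).symm)
    (isRelPerfect_of_flat_fp_cx ψ hab hn m)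

variable (r : ℕ)

/-- Modules of finite type on projective space over an affine scheme. -/
theorem exists_epi_affine_ft {A : Type u} [CommRing A] (F : (KRR.PY r (Spec (CommRingCat.of A))).Modules)
    [Coh.IsQCoh F] (hFT : CohB1.IsFT F) :
    ∃ (n k : ℕ) (p : (∐ fun _ : Fin k => O r (Spec (CommRingCat.of A)) (-(n : ℤ))) ⟶ F), Epi p := by
  obtain ⟨g₁, _, -, htw⟩ := exists_chart_id r A
  haveI h₁q : Coh.IsQCoh ((Scheme.Modules.pullback g₁).obj F) := PullbackMod.isQCoh_pullback g₁ F
  obtain ⟨n, k, p, hp⟩ := exists_epi_proj r ((Scheme.Modules.pullback g₁).obj F)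
    h₁q (PullbackMod.isFiniteType_pullback g₁ F hFT)
  obtain ⟨t⟩ := htw (-(n : ℤ))
  obtain ⟨σ⟩ := nonempty_pullback_sigma (inv g₁) (c := k) (Twist.twistProjSpace r A (-(n : ℤ)))
  let back : ∀ M : (KRR.PY r (Spec (CommRingCat.of A))).Modules,
      (Scheme.Modules.pullback (inv g₁)).obj ((Scheme.Modules.pullback g₁).obj M) ≅ M := fun M =>
    (Scheme.Modules.pullbackComp (inv g₁) g₁).app M ≪≫ (Scheme.Modules.pullbackCongr (IsIso.inv_hom_id g₁)).app M ≪≫
      (Scheme.Modules.pullbackId _).app M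
  let e : (∐ fun _ : Fin k => O r (Spec (CommRingCat.of A)) (-(n : ℤ))) ≅
      (Scheme.Modules.pullback (inv g₁)).obj (∐ fun _ : Fin k => Twist.twistProjSpace r A (-(n : ℤ))) :=
    Sigma.mapIso (fun _ => (back _).symm ≪≫ (Scheme.Modules.pullback (inv g₁)).mapIso t) ≪≫ σ.symm
  haveI := hp
  haveI : PreservesColimitsOfSize.{0, 0} (Scheme.Modules.pullback (inv g₁)) :=
    (Scheme.Modules.pullbackPushforwardAdjunction (inv g₁)).leftAdjoint_preservesColimits
  refine ⟨n, k, e.hom ≫ (Scheme.Modules.pullback (inv g₁)).map p ≫ (back F).hom, ?_⟩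
  infer_instance

/-- High twists of pseudo-coherent modules over an affine base. -/
theorem exists_vanishing_affine_pc {A : Type u} [CommRing A] :
    ∀ (F : (KRR.PY r (Spec (CommRingCat.of A))).Modules), IsPCMod F →
      ∃ m₀ : ℕ, ∀ (d : ℤ), (m₀ : ℤ) ≤ d → ∀ q : ℤ, 1 ≤ q → Van r (Spec (CommRingCat.of A)) q d F := by
  obtain ⟨N, hN⟩ := exists_isLE_rpush_qcoh (KRR.pr r (Spec (CommRingCat.of A)))
  have key : ∀ (s : ℕ) (F : (KRR.PY r (Spec (CommRingCat.of A))).Modules), IsPCMod F →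
      ∃ m₀ : ℕ, ∀ (d : ℤ), (m₀ : ℤ) ≤ d → ∀ q : ℤ, (N : ℤ) + 1 - s ≤ q → 1 ≤ q →
        Van r (Spec (CommRingCat.of A)) q d F := by
    intro s
    induction s with
    | zero =>
      intro F hF
      refine ⟨0, fun d _ q hq _ => ?_⟩
      haveI := isQCoh_of_pc hF
      haveI := isQCoh_T d F
      have := hN (DCoh.inD _ ((T r _ d).obj F)) 0 (isQCohD_inD _ ‹_›) inferInstance
      exact (DerivedCategory.isLE_iff _ _).1 this q (by omega)
    | succ s ih =>
      intro F hF
      haveI := isQCoh_of_pc hF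
      obtain ⟨n, k, p, hp⟩ := exists_epi_affine_ft r F (isFT_of_pc hF)
      haveI := hp
      have hsum := isFinLocFree_sigma k (fun _ : Fin k => O r (Spec (CommRingCat.of A)) (-(n : ℤ)))
        fun _ => isFinLocFree_O r _ _
      have hS : (ShortComplex.mk (kernel.ι p) p (kernel.condition p)).ShortExact :=
        { exact := ShortComplex.exact_kernel p }
      obtain ⟨m, hm⟩ := ih (kernel p) (isPC_of_shortExact hS (isPC_of_flf hsum) hF)
      refine ⟨max m n, fun d hd q hq hq1 => van₃ hS q d ?_ (hm d (by omega) (q + 1) (by omega) (by omega))⟩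
      exact isZero_obj_of_total (T r _ d ⋙ DerivedCategory.singleFunctor _ 0 ⋙
        DCoh.Rpush (KRR.pr r (Spec (CommRingCat.of A))) ⋙ DerivedCategory.homologyFunctor _ q)
        (Iso.refl _) (van_O r q d _ hq1 (by omega))
  intro F hF
  obtain ⟨m, hm⟩ := key N F hF
  exact ⟨m, fun d hd q hq => hm d hd q (by omega) hq⟩

variable {r} {S : Scheme.{u}}

/-- High twists of flat modules of finite presentation have no higher direct images. -/
theorem exists_vanishing_fp [CompactSpace S] (F : (KRR.PY r S).Modules) (hF : CohB1.IsFP F)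
    (hfl : FlatMod.IsFlatOver (KRR.pr r S) F) :
    ∃ m₀ : ℕ, ∀ (d : ℤ), (m₀ : ℤ) ≤ d → ∀ q : ℤ, 1 ≤ q → Van r S q d F := by
  classical
  haveI hFq := FibreDepth.isQCoh_of_isFP F hF
  have hloc : ∀ x : S, ∃ (W : S.Opens) (hW : IsAffineOpen W), x ∈ W ∧ ∃ m₀ : ℕ, ∀ (d : ℤ), (m₀ : ℤ) ≤ d →
      ∀ q : ℤ, 1 ≤ q → IsZero ((Scheme.Modules.restrictFunctor hW.fromSpec).obj (DCoh.HD (RegLib.W r S d F) q)) := by
    intro x
    obtain ⟨_, ⟨W, hW, rfl⟩, hx, -⟩ :=
      S.isBasis_affineOpens.exists_subset_of_mem_open (Set.mem_univ x) isOpen_univ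
    refine ⟨W, hW, hx, ?_⟩
    obtain ⟨g', hsq, htw⟩ := exists_chart r S (A := Γ(S, W)) hW.fromSpec
    obtain ⟨g₁, _, hsq₁, htw₁⟩ := exists_chart_id r Γ(S, W)
    let F' := (Scheme.Modules.pullback (inv g₁)).obj ((Scheme.Modules.pullback g').obj F)
    haveI : IsOpenImmersion g' := MorphismProperty.of_isPullback hsq.flip (inferInstance : IsOpenImmersion hW.fromSpec)
    haveI hG : Coh.IsQCoh ((Scheme.Modules.pullback g').obj F) := PullbackMod.isQCoh_pullback g' F
    have hF' : CohB1.IsFP F' := PullbackMod.isFP_pullback _ _ (PullbackMod.isFP_pullback _ _ hF)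
    have hfl₁ : FlatMod.IsFlatOver (KRR.pr r (Spec (CommRingCat.of Γ(S, W)))) F' :=
      BC.isFlatOver_pullback_chart (CohB1.ProjSpace.toSpec r Γ(S, W)) (inv g₁) _ (𝟙 _)
        (by rw [IsIso.inv_comp_eq, Category.comp_id]; exact (hsq₁.w.trans (Category.comp_id _)).symm) _
        (BC.isFlatOver_pullback_chart (KRR.pr r S) g' _ hW.fromSpec hsq.w F hfl)
    obtain ⟨m, hm⟩ := exists_vanishing_affine_pc r F' (isPC_of_fp_flat _ F' hF' hfl₁)
    refine ⟨m, fun d hd q hq => ?_⟩
    haveI := BC.hasRpush (CohB1.ProjSpace.toSpec r Γ(S, W))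
    obtain ⟨e⟩ := nonempty_chart_HD hW.fromSpec g' hsq q d F hFq
    obtain ⟨e₁⟩ := nonempty_chart_HD (𝟙 _) g₁ hsq₁ q d F'
      (FibreDepth.isQCoh_of_isFP F' hF')
    obtain ⟨t⟩ := htw d
    obtain ⟨t₁⟩ := htw₁ d
    let b : (Scheme.Modules.pullback g₁).obj F' ≅ (Scheme.Modules.pullback g').obj F :=
      (Scheme.Modules.pullbackComp g₁ (inv g₁)).app _ ≪≫ (Scheme.Modules.pullbackCongr (IsIso.hom_inv_id g₁)).app _ ≪≫
        (Scheme.Modules.pullbackId _).app _
    let c : (Scheme.Modules.pullback g₁).obj ((T r _ d).obj F') ≅ (Scheme.Modules.pullback g').obj ((T r S d).obj F) :=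
      ((pullTensorBiIsoSch g₁).app (O r _ d)).app F' ≪≫
      (((DCoh.tensorBi (X := CohB1.ProjSpace r Γ(S, W))).mapIso (t₁ ≪≫ t.symm)).app _) ≪≫
      ((DCoh.tensorBi (X := CohB1.ProjSpace r Γ(S, W))).obj _).mapIso b ≪≫
      (((pullTensorBiIsoSch g').app (O r S d)).app F).symm
    exact IsZero.of_iso ((Scheme.Modules.restrictFunctor (𝟙 _)).map_isZero (hm d hd q hq))
      (e ≪≫ (DerivedCategory.homologyFunctor _ q).mapIso ((DCoh.Rpush _).mapIso
        ((DerivedCategory.singleFunctor _ 0).mapIso c.symm)) ≪≫ e₁.symm)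
  choose W hW hxW m hm using hloc
  obtain ⟨T, hT⟩ := isCompact_univ.elim_finite_subcover (fun x => (W x : Set S)) (fun x => (W x).2)
    (fun x _ => Set.mem_iUnion.2 ⟨x, hxW x⟩)
  refine ⟨T.sup m, fun d hd q hq => isZero_of_local fun y => ?_⟩
  obtain ⟨x, hxT, hy⟩ := Set.mem_iUnion₂.1 (hT (Set.mem_univ y))
  obtain ⟨z, hz⟩ : y ∈ Set.range (hW x).fromSpec := by rw [(hW x).range_fromSpec]; exact hy
  exact ⟨_, (hW x).fromSpec, inferInstance, z, hz, hm x d
    (le_trans (by exact_mod_cast Finset.le_sup hxT) hd) q hq⟩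

theorem isInvertible_O (r : ℕ) (S : Scheme.{u}) (d : ℤ) : PicF.IsInvertible (O r S d) :=
  AmpleLib.isInvertible_pullback _ (isInvertible_twist d)

/-- Direct images of acyclic twists of flat modules of finite presentation are vector bundles. -/
theorem isFinLocFree_push_T_fp {F : (KRR.PY r S).Modules} (hF : CohB1.IsFP F)
    (hfl : FlatMod.IsFlatOver (KRR.pr r S) F) (d : ℤ) (h : ∀ q : ℕ, 1 ≤ q → Van r S q d F) :
    FlatMod.IsFinLocFree ((Scheme.Modules.pushforward (KRR.pr r S)).obj ((T r S d).obj F)) := by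
  let π := KRR.pr r S
  haveI := FibreDepth.isQCoh_of_isFP F hF
  haveI : Coh.IsQCoh (DCohLib.tmod F (O r S d)) :=
    FibreDepth.isQCoh_of_isFP _ (GenBCLib.isFP_tensor_invertible hF (isInvertible_O r S d))
  obtain ⟨t⟩ := nonempty_T_right r S d
  let e : DCohLib.tmod F (O r S d) ≅ (T r S d).obj F := (t.app F).symm
  have hfp : CohB1.IsFP ((T r S d).obj F) :=
    DCohLib.isFP_iso e (GenBCLib.isFP_tensor_invertible hF (isInvertible_O r S d))
  have hflat : FlatMod.IsFlatOver π ((T r S d).obj F) :=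
    isFlatOver_of_iso π e (TwistFlat.isFlatOver_tensor π (isInvertible_O r S d) hfl)
  haveI : EnoughInjectives (KRR.PY r S).Modules := inferInstance
  haveI : HasInjectiveResolutions (KRR.PY r S).Modules := inferInstance
  have huniv : ClSub.IsProperOver π (Set.univ : Set (KRR.PY r S)) :=
    (ClSubLib.isProperOver_iff π (𝟙 _) (Set.range_id)).2 (by rw [Category.id_comp]; infer_instance)
  refine PushFlf.isFinLocFree_push π _ hfp hflat
    (ClSubLib.isProperOver_subset π huniv (PullbackMod.isClosed_support_of_isFT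
      (ExactConstrLib.isFT_of_isFP hfp)) (Set.subset_univ _)) fun q hq => ?_
  have h' := IsZero.of_iso ((van_iff_rpush q d F).1 (h q (by omega)))
    ((RpushLib.toAbRpushIso π q).app ((T r S d).obj F))
  haveI : (QCohLib.toAbF S).Faithful := inferInstanceAs (SheafOfModules.toSheaf.{u} S.ringCatSheaf).Faithful
  rw [IsZero.iff_id_eq_zero]
  exact (QCohLib.toAbF S).map_injective (h'.eq_of_src _ _)

end Groth.Agent.RegLib
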