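import Groth.Agent.RegLib.Window

/-!
# The counit on regular modules is an epimorphism, and the canonical resolution
-/

set_option autoImplicit false
set_option linter.style.haveILetI false
set_option linter.unusedSectionVars false
set_option maxHeartbeats 1000000
set_option backward.isDefEq.respectTransparency false

universe u

open CategoryTheory CategoryTheory.Limits AlgebraicGeometry TopologicalSpace Opposite
open CategoryTheory.Pretriangulated
open Groth.Agent.DCohLib Groth.Agent.DCohMore

attribute [local instance] HasDerivedCategory.standard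

noncomputable section

namespace Groth.Agent.RegLib

open Groth.Agent.DCohMore.TwistOver

variable {r : ℕ} {S : Scheme.{u}}

local notation "P" => KRR.PY r S
local notation "π" => KRR.pr r S

theorem isQCoh_kernel' {X : Scheme.{u}} {M N : X.Modules} (f : M ⟶ N) (hM : Coh.IsQCoh M) (hN : Coh.IsQCoh N) :
    Coh.IsQCoh (kernel f) :=
  (qcP X).prop_of_isLimit_kernelFork (limit.isLimit _) hM hN

theorem epi_of_van_one {E : ShortComplex (P).Modules} (hE : E.ShortExact) (d : ℤ) (h : Van r S 1 d E.X₁) :
    Epi ((Scheme.Modules.pushforward π).map ((T r S d).map E.g)) := by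
  obtain ⟨c, hc⟩ := exists_triangle hE d
  have hδ : DerivedCategory.HomologySequence.δ (Triangle.mk
      ((DCoh.Rpush π).map ((DerivedCategory.singleFunctor (P).Modules 0).map ((T r S d).map E.f)))
      ((DCoh.Rpush π).map ((DerivedCategory.singleFunctor (P).Modules 0).map ((T r S d).map E.g))) c)
      (0 : ℤ) 1 (by norm_num) = 0 := h.eq_of_tgt _ _
  exact (((MorphismProperty.epimorphisms S.Modules).arrow_mk_iso_iff
    (((Functor.mapArrowFunctor _ _).mapIso (PushZero.zeroIso π)).app (Arrow.mk ((T r S d).map E.g)))).2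
    ((DerivedCategory.HomologySequence.epi_homologyMap_mor₂_iff _ hc 0 1).2 hδ) :)

theorem epi_push_T_congr {d e : ℤ} {c : ℤ} (h : c + d = e) {M N : (P).Modules} (g : M ⟶ N) :
    Epi ((Scheme.Modules.pushforward π).map ((T r S d).map ((T r S c).map g))) ↔
      Epi ((Scheme.Modules.pushforward π).map ((T r S e).map g)) := by
  obtain ⟨t⟩ := nonempty_T_comp r S h
  exact (MorphismProperty.epimorphisms S.Modules).arrow_mk_iso_iff
    (((Functor.mapArrowFunctor _ _).mapIso (Functor.isoWhiskerRight t (Scheme.Modules.pushforward π))).app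
      (Arrow.mk g))

/-- Epimorphisms on pushforwards pass to finite sums of twists. -/
theorem epi_push_sigma {d a : ℤ} {c : ℕ} {N : (P).Modules} (i : N ≅ ∐ fun _ : Fin c => O r S a)
    {G M : (P).Modules} (g : G ⟶ M) (h : Epi ((Scheme.Modules.pushforward π).map ((T r S (a + d)).map g))) :
    Epi ((Scheme.Modules.pushforward π).map ((T r S d).map (((DCoh.tensorBi (X := P)).obj N).map g))) := by
  have h' : Epi ((Scheme.Modules.pushforward π).map ((T r S d).map (((DCoh.tensorBi (X := P)).obj (O r S a)).map g))) :=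
    (epi_push_T_congr rfl g).2 h
  obtain ⟨p, ι, hs⟩ := exists_total i
  let H := T r S d ⋙ Scheme.Modules.pushforward π
  refine Preadditive.epi_of_cancel_zero _ fun {Z} v hv => ?_
  change H.map (((DCoh.tensorBi (X := P)).obj N).map g) ≫ v = 0 at hv
  have key : ∀ k, H.map (((DCoh.tensorBi (X := P)).map (ι k)).app M) ≫ v = 0 := fun k => by
    haveI : Epi (H.map (((DCoh.tensorBi (X := P)).obj (O r S a)).map g)) := h'
    rw [← cancel_epi (H.map (((DCoh.tensorBi (X := P)).obj (O r S a)).map g)), comp_zero, ← Category.assoc,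
      ← H.map_comp, ((DCoh.tensorBi (X := P)).map (ι k)).naturality g, H.map_comp, Category.assoc, hv, comp_zero]
  have hid : 𝟙 ((H.obj (((DCoh.tensorBi (X := P)).obj N).obj M))) =
      ∑ k, H.map ((DCoh.tensorRightMod M).map (p k)) ≫ H.map ((DCoh.tensorRightMod M).map (ι k)) := by
    calc _ = H.map ((DCoh.tensorRightMod M).map (𝟙 N)) := by
          rw [CategoryTheory.Functor.map_id, CategoryTheory.Functor.map_id]
          rfl
      _ = H.map ((DCoh.tensorRightMod M).map (∑ k, p k ≫ ι k)) := by rw [hs]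
      _ = _ := by simp only [Functor.map_sum, Functor.map_comp]
  calc v = 𝟙 (H.obj (((DCoh.tensorBi (X := P)).obj N).obj M)) ≫ v := (Category.id_comp v).symm
    _ = 0 := by
      rw [hid, Preadditive.sum_comp]
      exact Finset.sum_eq_zero fun k _ => (Category.assoc _ _ _).trans
        ((congrArg (_ ≫ ·) (key k)).trans comp_zero)

variable (F : (KRR.PY r S).Modules)

/-- The counit. -/
abbrev ev : (Scheme.Modules.pullback π).obj ((Scheme.Modules.pushforward π).obj F) ⟶ F :=
  (Scheme.Modules.pullbackPushforwardAdjunction π).counit.app F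

theorem epi_push_ev : Epi ((Scheme.Modules.pushforward π).map (ev F)) :=
  (SplitEpi.mk ((Scheme.Modules.pullbackPushforwardAdjunction π).unit.app _)
    ((Scheme.Modules.pullbackPushforwardAdjunction π).right_triangle_components F) : SplitEpi _).epi

theorem epi_push_T_ev_zero : Epi ((Scheme.Modules.pushforward π).map ((T r S 0).map (ev F))) := by
  obtain ⟨z⟩ := nonempty_T_zero r S
  exact ((MorphismProperty.epimorphisms S.Modules).arrow_mk_iso_iff
    (((Functor.mapArrowFunctor _ _).mapIso (Functor.isoWhiskerRight z (Scheme.Modules.pushforward π))).app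
      (Arrow.mk (ev F)))).2 ((MorphismProperty.epimorphisms.iff _).2 (epi_push_ev F))

variable {F}

theorem isQCoh_push (hF : Coh.IsQCoh F) : Coh.IsQCoh ((Scheme.Modules.pushforward π).obj F) := by
  haveI := hF
  exact QCohLib.isQCoh_pushforward F π

/-- Sections of twists of a regular module come from the sections. -/
theorem epi_push_T_ev (hreg : KRR.IsRegSheaf r S F) :
    ∀ m : ℕ, Epi ((Scheme.Modules.pushforward π).map ((T r S (m : ℤ)).map (ev F)))
  | 0 => epi_push_T_ev_zero F
  | m + 1 => by
    obtain ⟨C, hex, hflf, hterm, hzero⟩ := exists_koszul r S (-((r : ℤ) + 1))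
    let D := ((DCoh.tensorRightMod F).mapHomologicalComplex (ComplexShape.up ℤ)).obj C
    have hD : ∀ i, D.ExactAt i := exactAt_tensorRight F C _ (fun n hn => hzero n (Or.inr hn))
      (fun n => isFlat_of_flf (hflf n)) hex
    have hz : ∀ i : ℤ, i < 0 ∨ (r : ℤ) + 1 < i → IsZero (D.X i) := fun i hi =>
      (DCoh.tensorRightMod F).map_isZero (hzero i hi)
    have h1 := van_cycles_up hD (hz (-1) (by omega)) ((m + 1 : ℕ) : ℤ) r 1 fun i hi => by
      obtain ⟨e⟩ := hterm i (by omega)
      exact van_tensor_sigma rfl e F (van_of_isReg hreg (by omega) (by omega))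
    have hrr : (r : ℤ) + 1 = ((r + 1 : ℕ) : ℤ) := by push_cast; rfl
    haveI := isIso_iCycles D ((r + 1 : ℕ) : ℤ) (hz _ (by omega))
    let H := T r S ((m + 1 : ℕ) : ℤ) ⋙ Scheme.Modules.pushforward π
    have h2 : Epi (H.map ((DCoh.tensorRightMod F).map (C.d (r : ℤ) ((r + 1 : ℕ) : ℤ)))) := by
      haveI : Epi (H.map (cySC D (r : ℤ) ((r + 1 : ℕ) : ℤ) hrr).g) :=
        epi_of_van_one (shortExact_cySC D hD _ _ hrr) _ h1
      have he : (DCoh.tensorRightMod F).map (C.d (r : ℤ) ((r + 1 : ℕ) : ℤ)) =
          (cySC D (r : ℤ) ((r + 1 : ℕ) : ℤ) hrr).g ≫ D.iCycles _ :=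
        (D.toCycles_i (r : ℤ) ((r + 1 : ℕ) : ℤ)).symm
      rw [he, H.map_comp]
      exact epi_comp' ‹_› inferInstance
    let G := (Scheme.Modules.pullback π).obj ((Scheme.Modules.pushforward π).obj F)
    obtain ⟨e⟩ := hterm r (by omega)
    have h3 : Epi (H.map (((DCoh.tensorBi (X := P)).obj (C.X (r : ℤ))).map (ev F))) := by
      refine epi_push_sigma e (ev F) ?_
      have := epi_push_T_ev hreg m
      rwa [show -((r : ℤ) + 1) + (r : ℤ) + ((m + 1 : ℕ) : ℤ) = (m : ℤ) by omega]
    have h4 : Epi (H.map (((DCoh.tensorBi (X := P)).obj (C.X ((r + 1 : ℕ) : ℤ))).map (ev F))) := by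
      haveI : Epi (H.map (((DCoh.tensorBi (X := P)).map (C.d (r : ℤ) ((r + 1 : ℕ) : ℤ))).app G) ≫
          H.map (((DCoh.tensorBi (X := P)).obj (C.X ((r + 1 : ℕ) : ℤ))).map (ev F))) := by
        rw [← H.map_comp, ← ((DCoh.tensorBi (X := P)).map (C.d (r : ℤ) ((r + 1 : ℕ) : ℤ))).naturality (ev F),
          H.map_comp]
        exact epi_comp' h3 h2
      exact epi_of_epi (H.map (((DCoh.tensorBi (X := P)).map (C.d (r : ℤ) ((r + 1 : ℕ) : ℤ))).app G)) _
    obtain ⟨e'⟩ := hterm (r + 1) le_rfl
    obtain ⟨i⟩ := isoSigmaOne (Nat.choose_self (r + 1)) e'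
    refine (epi_push_T_congr (show -((r : ℤ) + 1) + ((r + 1 : ℕ) : ℤ) + ((m + 1 : ℕ) : ℤ) = ((m + 1 : ℕ) : ℤ) by omega)
      (ev F)).1 ?_
    exact ((MorphismProperty.epimorphisms S.Modules).arrow_mk_iso_iff
      (((Functor.mapArrowFunctor _ _).mapIso (Functor.isoWhiskerRight ((DCoh.tensorBi (X := P)).mapIso i) H)).app
        (Arrow.mk (ev F)))).2 ((MorphismProperty.epimorphisms.iff _).2 h4)

/-- The counit of a regular module is an epimorphism. -/
theorem epi_ev (hF : Coh.IsQCoh F) (hreg : KRR.IsRegSheaf r S F) : Epi (ev F) := by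
  have hM := isQCoh_push hF
  let G := (Scheme.Modules.pullback π).obj ((Scheme.Modules.pushforward π).obj F)
  haveI := hM
  have hGq : Coh.IsQCoh G := PullbackMod.isQCoh_pullback π _
  have hGreg : KRR.IsRegSheaf r S G := isReg_pullback _ hM
  let sg := DerivedCategory.singleFunctor (P).Modules 0
  obtain ⟨K, g, h, hT⟩ := distinguished_cocone_triangle (sg.map (ev F))
  have hKq : DCoh.IsQCohD K := fun i => SiteCmpLib.prop_mid (qcP P) _ _ _ _ _ _ _
    (DerivedCategory.HomologySequence.exact₂ _ hT i) (DerivedCategory.HomologySequence.exact₃ _ hT i (i + 1) rfl)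
    (DerivedCategory.HomologySequence.exact₁ _ hT i (i + 1) rfl)
    (isQCohD_inD G hGq i) (isQCohD_inD F hF i) (isQCohD_inD G hGq (i + 1)) (isQCohD_inD F hF (i + 1))
  have hKge : K.IsGE (-1) := (DerivedCategory.isGE_iff _ _).2 fun i hi =>
    (DerivedCategory.HomologySequence.exact₃ _ hT i (i + 1) rfl).isZero_of_both_zeros
      ((isZero_HD_inD F (show i ≠ 0 by omega)).eq_of_src _ _)
      ((isZero_HD_inD G (show i + 1 ≠ 0 by omega)).eq_of_tgt _ _)
  have hKle : K.IsLE (-1) := by
    refine isLE_of_window (-1) (r + 1) 0 (by omega) (-1) K le_rfl hKq hKge (fun d h1 h2 => ?_) fun d hd _ => ?_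
    · exact absurd h1 (by omega)
    obtain ⟨m, rfl⟩ := Int.eq_ofNat_of_zero_le hd
    obtain ⟨c, hc⟩ := ((exTri_of_isTriangulated (TwistOver.F r S (m : ℤ))).comp (BC.exTri_rpush π)) _ hT
    refine (DerivedCategory.isLE_iff _ _).2 fun i hi => ?_
    obtain ⟨eG⟩ := nonempty_F_inD (m : ℤ) G
    obtain ⟨eF⟩ := nonempty_F_inD (m : ℤ) F
    let H := DerivedCategory.homologyFunctor S.Modules i
    have hG' : IsZero (DCoh.HD ((DCoh.Rpush π).obj ((TwistOver.F r S (m : ℤ)).obj (sg.obj G))) (i + 1)) :=
      IsZero.of_iso (van_of_isReg hGreg (q := i + 1) (d := m) (by omega) (by omega))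
        ((DerivedCategory.homologyFunctor S.Modules (i + 1)).mapIso ((DCoh.Rpush π).mapIso eG))
    rcases eq_or_lt_of_le (show 0 ≤ i by omega) with rfl | hi'
    · have hepi : Epi ((DerivedCategory.homologyFunctor S.Modules 0).map ((DCoh.Rpush π).map ((TwistOver.F r S (m : ℤ)).map (sg.map (ev F))))) := by
        let η := Functor.isoWhiskerRight ((T r S (m : ℤ)).mapDerivedCategorySingleFunctor 0)
          (DCoh.Rpush π ⋙ DerivedCategory.homologyFunctor S.Modules 0) ≪≫
            Functor.isoWhiskerLeft (T r S (m : ℤ)) (PushZero.zeroIso π).symm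
        exact ((MorphismProperty.epimorphisms S.Modules).arrow_mk_iso_iff
          (((Functor.mapArrowFunctor _ _).mapIso η).app (Arrow.mk (ev F)))).2
          ((MorphismProperty.epimorphisms.iff _).2 (epi_push_T_ev hreg m))
      exact (DerivedCategory.HomologySequence.exact₃ _ hc 0 1).isZero_of_both_zeros
        ((DerivedCategory.HomologySequence.epi_homologyMap_mor₁_iff _ hc 0).1 hepi) (hG'.eq_of_tgt _ _)
    · have hF' : IsZero (DCoh.HD ((DCoh.Rpush π).obj ((TwistOver.F r S (m : ℤ)).obj (sg.obj F))) i) :=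
        IsZero.of_iso (van_of_isReg hreg (q := i) (d := m) (by omega) (by omega))
          (H.mapIso ((DCoh.Rpush π).mapIso eF))
      exact (DerivedCategory.HomologySequence.exact₃ _ hc i (i + 1) rfl).isZero_of_both_zeros
        (hF'.eq_of_src _ _) (hG'.eq_of_tgt _ _)
  have hepi : Epi ((DerivedCategory.homologyFunctor (P).Modules 0).map (sg.map (ev F))) :=
    (DerivedCategory.HomologySequence.epi_homologyMap_mor₁_iff _ hT 0).2
      (((DerivedCategory.isLE_iff _ _).1 hKle 0 (by omega)).eq_of_tgt _ _)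
  exact ((MorphismProperty.epimorphisms (P).Modules).arrow_mk_iso_iff
    (((Functor.mapArrowFunctor _ _).mapIso (DerivedCategory.singleFunctorCompHomologyFunctorIso (P).Modules 0)).app
      (Arrow.mk (ev F)))).1 ((MorphismProperty.epimorphisms.iff _).2 hepi)

/-- The first syzygy of a regular module, twisted once, is regular. -/
theorem isReg_kernel (hF : Coh.IsQCoh F) (hreg : KRR.IsRegSheaf r S F) :
    KRR.IsRegSheaf r S ((T r S 1).obj (kernel (ev F))) := by
  haveI := epi_ev hF hreg
  have hE : (ShortComplex.mk (kernel.ι (ev F)) (ev F) (kernel.condition _)).ShortExact :=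
    { exact := ShortComplex.exact_kernel _ }
  have hM := isQCoh_push hF
  have hG := isReg_pullback (r := r) _ hM
  refine (isReg_iff _).2 fun q hq => (van_T (show (1 : ℤ) + -(q : ℤ) = 1 - q by ring) _).2 ?_
  rcases eq_or_lt_of_le hq with rfl | hq
  · exact van₁_one hE _ (by simpa using epi_push_T_ev_zero F)
      (van_of_isReg hG (by norm_num) (by norm_num))
  · exact van₁ hE _ _ (van_of_isReg hreg (by omega) (by omega)) (van_of_isReg hG (by omega) (by omega))

end Groth.Agent.RegLib
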