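import Groth.Agent.RegLib.Basic
import Groth.Agent.DCohMore.KoszulTwist
import Groth.Agent.S9805

/-!
# The Koszul complex on projective space over a scheme and chases along it
-/

set_option autoImplicit false
set_option linter.style.haveILetI false
set_option linter.unusedSectionVars false
set_option maxHeartbeats 1000000
set_option backward.isDefEq.respectTransparency false

universe u

open CategoryTheory CategoryTheory.Limits AlgebraicGeometry TopologicalSpace Opposite
open CategoryTheory.Pretriangulated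
open Groth.Agent.DCohLib Groth.Agent.DCohMore

attribute [local instance] HasDerivedCategory.standard

noncomputable section

namespace Groth.Agent.RegLib

open Groth.Agent.DCohMore.TwistOver

variable (r : ℕ) (S : Scheme.{u})

local notation "P" => KRR.PY r S
local notation "π" => KRR.pr r S

theorem isFlat_of_flf {X : Scheme.{u}} {M : X.Modules} (h : FlatMod.IsFinLocFree M) : FlatMod.IsFlat M :=
  ((Groth.Agent.S9805.result X M (PullbackMod.isQCoh_and_isFP_of_isFinLocFree M h).1).2 h).1

theorem isFlat_of_isZero' {X : Scheme.{u}} {M : X.Modules} (h : IsZero M) : FlatMod.IsFlat M :=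
  isFlat_of_flf (isFinLocFree_of_isZero h)

theorem exactAt_of_isZero_Q {X : Scheme.{u}} {K : CochainComplex X.Modules ℤ}
    (h : IsZero (DerivedCategory.Q.obj K)) (i : ℤ) : K.ExactAt i :=
  (HomologicalComplex.exactAt_iff_isZero_homology _ _).2
    (IsZero.of_iso ((DerivedCategory.homologyFunctor X.Modules i).map_isZero h)
      ((DerivedCategory.homologyFunctorFactors X.Modules i).app K).symm)

theorem isZero_Q_of_exact {X : Scheme.{u}} {K : CochainComplex X.Modules ℤ}
    (h : ∀ i, K.ExactAt i) : IsZero (DerivedCategory.Q.obj K) :=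
  isZero_of_isZero_HD fun i => IsZero.of_iso ((HomologicalComplex.exactAt_iff_isZero_homology _ _).1 (h i))
    ((DerivedCategory.homologyFunctorFactors X.Modules i).app K)

open scoped ZeroObject in
/-- Exact bounded above complexes of flat modules stay exact after inverse image. -/
theorem exactAt_pullback {X Y : Scheme.{u}} (f : X ⟶ Y) (K : CochainComplex Y.Modules ℤ) (b : ℤ)
    (hb : ∀ n, b < n → IsZero (K.X n)) (hfl : ∀ n, FlatMod.IsFlat (K.X n)) (h : ∀ i, K.ExactAt i) (i : ℤ) :
    ((pullCx f).obj K).ExactAt i := by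
  haveI := hasLpull f
  have hK := isKFlat_of_flat_bddAbove K b hb hfl
  let O : CochainComplex Y.Modules ℤ := 0
  have hz : IsZero O := isZero_zero _
  have hz' : ∀ n, IsZero (O.X n) := fun n => (HomologicalComplex.eval _ _ n).map_isZero hz
  have hO := isKFlat_of_flat_bddAbove O b (fun n _ => hz' n) fun n => isFlat_of_isZero' (hz' n)
  refine exactAt_of_isZero_Q (IsZero.of_iso ?_ ((lpullIsoK f K hK).symm ≪≫
    (DCoh.Lpull f).mapIso ((isZero_Q_of_exact h).iso (DerivedCategory.Q.map_isZero hz)) ≪≫
    lpullIsoK f O hO)) i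
  exact DerivedCategory.Q.map_isZero ((pullCx f).map_isZero hz)

open scoped ZeroObject in
/-- Exact bounded above complexes of flat modules stay exact after tensoring with a module. -/
theorem exactAt_tensorRight {X : Scheme.{u}} (M : X.Modules) (K : CochainComplex X.Modules ℤ) (b : ℤ)
    (hb : ∀ n, b < n → IsZero (K.X n)) (hfl : ∀ n, FlatMod.IsFlat (K.X n)) (h : ∀ i, K.ExactAt i) (i : ℤ) :
    (((DCoh.tensorRightMod M).mapHomologicalComplex (ComplexShape.up ℤ)).obj K).ExactAt i := by
  have hK := isKFlat_of_flat_bddAbove K b hb hfl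
  let O : CochainComplex X.Modules ℤ := 0
  have hz : IsZero O := isZero_zero _
  have hz' : ∀ n, IsZero (O.X n) := fun n => (HomologicalComplex.eval _ _ n).map_isZero hz
  have hO := isKFlat_of_flat_bddAbove O b (fun n _ => hz' n) fun n => isFlat_of_isZero' (hz' n)
  refine exactAt_of_isZero_Q (IsZero.of_iso ?_ ((lTensorModIso M K hK).symm ≪≫
    (DCoh.LTensorMod M).mapIso ((isZero_Q_of_exact h).iso (DerivedCategory.Q.map_isZero hz)) ≪≫
    lTensorModIso M O hO)) i
  exact DerivedCategory.Q.map_isZero (((DCoh.tensorRightMod M).mapHomologicalComplex _).map_isZero hz)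

/-- The exact complex of twists on projective space over the base. -/
theorem exists_koszul (a : ℤ) :
    ∃ C : CochainComplex (P).Modules ℤ, (∀ i : ℤ, C.ExactAt i) ∧ (∀ i, FlatMod.IsFinLocFree (C.X i)) ∧
      (∀ i : ℕ, i ≤ r + 1 → Nonempty (C.X (i : ℤ) ≅
        ∐ fun _ : Fin (Nat.choose (r + 1) i) => O r S (a + i))) ∧
      (∀ i : ℤ, i < 0 ∨ (r : ℤ) + 1 < i → IsZero (C.X i)) := by
  obtain ⟨C, hex, hterm, hzero⟩ := TwistFam.exists_koszul_twist r (ULift.{u} ℤ) a
  let p := pullback.fst (CohB1.ProjSpace.toSpec r (ULift.{u} ℤ)) (specULiftZIsTerminal.from S)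
  have hflf : ∀ i, FlatMod.IsFinLocFree (C.X i) := fun i => by
    by_cases hi : i < 0 ∨ (r : ℤ) + 1 < i
    · exact isFinLocFree_of_isZero (hzero i hi)
    · obtain ⟨k, rfl⟩ := Int.eq_ofNat_of_zero_le (show (0 : ℤ) ≤ i by omega)
      obtain ⟨e⟩ := hterm k (by omega)
      exact isFinLocFree_iso e.symm (isFinLocFree_sigma _ _ fun _ =>
        CurveLib.isFinLocFree_of_isInvertible (isInvertible_twist _))
  have hb : ∀ n, (r : ℤ) + 1 < n → IsZero (C.X n) := fun n hn => hzero n (Or.inr hn)
  refine ⟨(pullCx p).obj C, exactAt_pullback p C _ hb (fun n => isFlat_of_flf (hflf n)) hex,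
    fun i => PullbackMod.isFinLocFree_pullback p _ (hflf i), fun i hi => ?_,
    fun i hi => (Scheme.Modules.pullback p).map_isZero (hzero i hi)⟩
  obtain ⟨e⟩ := hterm i hi
  haveI : PreservesColimitsOfSize.{0, 0} (Scheme.Modules.pullback p) :=
    (Scheme.Modules.pullbackPushforwardAdjunction p).leftAdjoint_preservesColimits
  exact ⟨(Scheme.Modules.pullback p).mapIso e ≪≫
    PreservesCoproduct.iso (Scheme.Modules.pullback p) _⟩

variable {r S}

theorem exists_total {C : Type*} [Category C] [Preadditive C] [HasFiniteBiproducts C] {c : ℕ} {A N : C}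
    (e : N ≅ ∐ fun _ : Fin c => A) :
    ∃ (p : Fin c → (N ⟶ A)) (ι : Fin c → (A ⟶ N)), ∑ k, p k ≫ ι k = 𝟙 N := by
  let e' := e ≪≫ (biproduct.isoCoproduct (fun _ : Fin c => A)).symm
  refine ⟨fun k => e'.hom ≫ biproduct.π (fun _ : Fin c => A) k, fun k => biproduct.ι (fun _ : Fin c => A) k ≫ e'.inv, ?_⟩
  simp only [Category.assoc, ← Preadditive.comp_sum]
  rw [show (∑ k, biproduct.π (fun _ : Fin c => A) k ≫ biproduct.ι (fun _ : Fin c => A) k ≫ e'.inv) = e'.inv by
    simp only [← Category.assoc, ← Preadditive.sum_comp, biproduct.total, Category.id_comp], e'.hom_inv_id]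

/-- Additive functors kill finite sums of copies of what they kill. -/
theorem isZero_obj_of_total {C D : Type*} [Category C] [Category D] [Preadditive C] [Preadditive D]
    [HasFiniteBiproducts C] (Φ : C ⥤ D) [Φ.Additive] {c : ℕ} {A N : C} (e : N ≅ ∐ fun _ : Fin c => A)
    (h : IsZero (Φ.obj A)) : IsZero (Φ.obj N) := by
  obtain ⟨p, ι, hs⟩ := exists_total e
  rw [IsZero.iff_id_eq_zero, ← Φ.map_id, ← hs, Φ.map_sum]
  exact Finset.sum_eq_zero fun k _ => by rw [Φ.map_comp, h.eq_of_tgt (Φ.map (p k)) 0, zero_comp]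

theorem van_tensor_sigma {q d a e : ℤ} (h : a + d = e) {c : ℕ} {N : (P).Modules}
    (i : N ≅ ∐ fun _ : Fin c => O r S a) (M : (P).Modules) (hM : Van r S q e M) :
    Van r S q d ((DCoh.tensorRightMod M).obj N) :=
  isZero_obj_of_total (DCoh.tensorRightMod M ⋙ T r S d ⋙ DerivedCategory.singleFunctor (P).Modules 0 ⋙
    DCoh.Rpush π ⋙ DerivedCategory.homologyFunctor S.Modules q) i ((van_T h M).2 hM)

section Cycles

variable {A : Type*} [Category A] [Abelian A] (D : CochainComplex A ℤ)

/-- The short complex of cycles. -/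
abbrev cySC (i j : ℤ) (hij : i + 1 = j) : ShortComplex A :=
  ShortComplex.mk (D.iCycles i) (D.toCycles i j)
    (by rw [← cancel_mono (D.iCycles j), Category.assoc, D.toCycles_i, D.iCycles_d, zero_comp])

theorem shortExact_cySC (h : ∀ i, D.ExactAt i) (i j : ℤ) (hij : i + 1 = j) : (cySC D i j hij).ShortExact := by
  refine { exact := ?_, mono_f := inferInstanceAs (Mono (D.iCycles i)), epi_g := ?_ }
  · refine ShortComplex.exact_of_f_is_kernel _ (KernelFork.IsLimit.ofι' _ _ fun {W} k hk => ?_)
    refine ⟨D.liftCycles k j (by simp [← hij]) ?_, D.liftCycles_i _ _ _ _⟩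
    change k ≫ D.toCycles i j = 0 at hk
    rw [← D.toCycles_i, ← Category.assoc, hk, zero_comp]
  · refine Preadditive.epi_of_cancel_zero _ fun {Z} v hv => ?_
    change D.toCycles i j ≫ v = 0 at hv
    have hz := (HomologicalComplex.exactAt_iff_isZero_homology _ _).1 (h j)
    have hc := D.homologyIsCokernel i j (by simp [← hij])
    obtain ⟨w, hw⟩ := CokernelCofork.IsColimit.desc' hc v hv
    rw [← hw]
    exact (congrArg (· ≫ w) (hz.eq_of_tgt (D.homologyπ j) 0)).trans zero_comp

end Cycles

end Groth.Agent.RegLib
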