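import Groth.Agent.RegLib.Koszul

/-!
# Castelnuovo-Mumford regularity over an arbitrary base
-/

set_option autoImplicit false
set_option linter.style.haveILetI false
set_option linter.unusedSectionVars false
set_option maxHeartbeats 1000000
set_option backward.isDefEq.respectTransparency false

universe u

open CategoryTheory CategoryTheory.Limits AlgebraicGeometry TopologicalSpace Opposite
open CategoryTheory.Pretriangulated
open Groth.Agent.DCohLib Groth.Agent.DCohMore

attribute [local instance] HasDerivedCategory.standard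

noncomputable section

namespace Groth.Agent.RegLib

open Groth.Agent.DCohMore.TwistOver

variable {r : ℕ} {S : Scheme.{u}}

local notation "P" => KRR.PY r S
local notation "π" => KRR.pr r S

theorem isIso_iCycles {A : Type*} [Category A] [Abelian A] (D : CochainComplex A ℤ) (i : ℤ)
    (h : IsZero (D.X (i + 1))) : IsIso (D.iCycles i) :=
  ⟨D.liftCycles (𝟙 _) (i + 1) (by simp) (h.eq_of_tgt _ _), by
    rw [← cancel_mono (D.iCycles i), Category.assoc, HomologicalComplex.liftCycles_i,
      Category.comp_id, Category.id_comp], HomologicalComplex.liftCycles_i _ _ _ _ _⟩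

theorem isZero_cycles_zero {A : Type*} [Category A] [Abelian A] (D : CochainComplex A ℤ)
    (h : ∀ i, D.ExactAt i) (hz : IsZero (D.X (-1))) : IsZero (D.cycles 0) := by
  haveI := (shortExact_cySC D h (-1) 0 rfl).epi_g
  exact IsZero.of_epi (cySC D (-1) 0 rfl).g hz

section Chase

variable {D : CochainComplex (KRR.PY r S).Modules ℤ} (hD : ∀ i, D.ExactAt i)
  (h0 : IsZero (D.X (-1)))
include hD

include h0 in
/-- Chase from below. -/
theorem van_cycles_up (d : ℤ) : ∀ (j : ℕ) (q : ℤ),
    (∀ i : ℕ, i < j → Van r S (q + j - 1 - i) d (D.X i)) → Van r S q d (D.cycles j)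
  | 0, q, _ => van_of_module_isZero (isZero_cycles_zero D hD h0) q d
  | j + 1, q, h => by
    have hs := shortExact_cySC D hD (j : ℤ) ((j + 1 : ℕ) : ℤ) (by push_cast; ring)
    refine van₃ hs q d ?_ (van_cycles_up d j (q + 1) fun i hi => ?_)
    · exact (show q + (j + 1 : ℕ) - 1 - j = q by push_cast; ring) ▸ h j (by omega)
    · exact (show q + (j + 1 : ℕ) - 1 - i = q + 1 + j - 1 - i by push_cast; ring) ▸ h i (by omega)

/-- Chase from above. -/
theorem van_cycles_down (d : ℤ) (hz : IsZero (D.X ((r : ℤ) + 2))) : ∀ (k : ℕ) (j : ℕ), j + k = r + 1 → ∀ q : ℤ,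
    (∀ i : ℕ, i ≤ k → Van r S (q - i) d (D.X ((j : ℤ) + i))) → Van r S q d (D.cycles j)
  | 0, j, hj, q, h => by
    haveI := isIso_iCycles D (j : ℤ) (by rwa [show (j : ℤ) + 1 = r + 2 by omega])
    refine van_of_iso (asIso (D.iCycles j)).symm ?_
    simpa using h 0 le_rfl
  | k + 1, j, hj, q, h => by
    have hs := shortExact_cySC D hD (j : ℤ) ((j + 1 : ℕ) : ℤ) (by push_cast; ring)
    refine van₁ hs q d (van_cycles_down d hz k (j + 1) (by omega) (q - 1) fun i hi => ?_) ?_
    · have := h (i + 1) (by omega)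
      rw [show ((j : ℤ) + ((i + 1 : ℕ) : ℤ)) = ((j + 1 : ℕ) : ℤ) + i by push_cast; ring] at this
      exact (show q - ((i + 1 : ℕ) : ℤ) = q - 1 - i by push_cast; ring) ▸ this
    · simpa using h 0 (Nat.zero_le _)

end Chase

theorem isoSigmaOne {C : Type*} [Category C] [Preadditive C] [HasFiniteBiproducts C] {A N : C} {c : ℕ} (hc : c = 1)
    (e : N ≅ ∐ fun _ : Fin c => A) : Nonempty (A ≅ N) := by
  subst hc
  exact ⟨(coproductUniqueIso (fun _ : Fin 1 => A)).symm ≪≫ e.symm⟩

/-- Vanishing one step up from vanishing along a line below. -/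
theorem van_up {M : (P).Modules} {q d : ℤ}
    (h : ∀ k : ℕ, k ≤ r → Van r S (q + k) (d - 1 - k) M) : Van r S q d M := by
  obtain ⟨C, hex, hflf, hterm, hzero⟩ := exists_koszul r S (-((r : ℤ) + 1))
  let D := ((DCoh.tensorRightMod M).mapHomologicalComplex (ComplexShape.up ℤ)).obj C
  have hD : ∀ i, D.ExactAt i := exactAt_tensorRight M C _ (fun n hn => hzero n (Or.inr hn))
    (fun n => isFlat_of_flf (hflf n)) hex
  have hz : ∀ i : ℤ, i < 0 ∨ (r : ℤ) + 1 < i → IsZero (D.X i) := fun i hi =>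
    (DCoh.tensorRightMod M).map_isZero (hzero i hi)
  have h1 := van_cycles_up hD (hz (-1) (by omega)) d (r + 1) q fun i hi => by
    obtain ⟨e⟩ := hterm i (by omega)
    have h2 := h (r - i) (by omega)
    exact van_tensor_sigma rfl e M ((show q + ((r - i : ℕ) : ℤ) = q + ((r + 1 : ℕ) : ℤ) - 1 - i by omega) ▸
      (show d - 1 - ((r - i : ℕ) : ℤ) = -((r : ℤ) + 1) + i + d by omega) ▸ h2)
  haveI := isIso_iCycles D ((r + 1 : ℕ) : ℤ) (hz _ (by omega))
  obtain ⟨e⟩ := hterm (r + 1) le_rfl
  obtain ⟨i⟩ := isoSigmaOne (Nat.choose_self (r + 1)) e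
  exact (van_T (show -((r : ℤ) + 1) + ((r + 1 : ℕ) : ℤ) + d = d by omega) M).1
    (van_of_iso ((DCoh.tensorRightMod M).mapIso i.symm) (van_of_iso (asIso (D.iCycles _)) h1))

/-- Vanishing one step down from vanishing along a line above. -/
theorem van_down {M : (P).Modules} {q d : ℤ}
    (h : ∀ k : ℕ, k ≤ r → Van r S (q - k) (d + 1 + k) M) : Van r S q d M := by
  obtain ⟨C, hex, hflf, hterm, hzero⟩ := exists_koszul r S 0
  let D := ((DCoh.tensorRightMod M).mapHomologicalComplex (ComplexShape.up ℤ)).obj C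
  have hD : ∀ i, D.ExactAt i := exactAt_tensorRight M C _ (fun n hn => hzero n (Or.inr hn))
    (fun n => isFlat_of_flf (hflf n)) hex
  have hz : ∀ i : ℤ, i < 0 ∨ (r : ℤ) + 1 < i → IsZero (D.X i) := fun i hi =>
    (DCoh.tensorRightMod M).map_isZero (hzero i hi)
  obtain ⟨e⟩ := hterm 0 (Nat.zero_le _)
  obtain ⟨i⟩ := isoSigmaOne (Nat.choose_zero_right (r + 1)) e
  refine (van_T (show (0 : ℤ) + ((0 : ℕ) : ℤ) + d = d by simp) M).1
    (van_of_iso ((DCoh.tensorRightMod M).mapIso i.symm) ?_)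
  have hs := shortExact_cySC D hD ((0 : ℕ) : ℤ) ((1 : ℕ) : ℤ) (by norm_num)
  refine van₂ hs q d (van_of_module_isZero (isZero_cycles_zero D hD (hz (-1) (by omega))) q d) ?_
  refine van_cycles_down hD d (hz _ (by omega)) r 1 (by omega) q fun k hk => ?_
  obtain ⟨e'⟩ := hterm (1 + k) (by omega)
  have h2 := h k hk
  rw [show (((1 : ℕ) : ℤ) + (k : ℤ)) = ((1 + k : ℕ) : ℤ) by push_cast; ring]
  exact van_tensor_sigma rfl e' M ((show d + 1 + (k : ℤ) = 0 + ((1 + k : ℕ) : ℤ) + d by omega) ▸ h2)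

/-- Regular modules stay regular after a twist by one. -/
theorem isReg_T_one {M : (P).Modules} (h : KRR.IsRegSheaf r S M) : KRR.IsRegSheaf r S ((T r S 1).obj M) := by
  rw [isReg_iff] at h ⊢
  intro q hq
  refine (van_T (show (1 : ℤ) + -(q : ℤ) = 1 - q by ring) M).2 (van_up fun k _ => ?_)
  have := h (q + k) (by omega)
  rw [show (1 : ℤ) - q - 1 - k = -((q + k : ℕ) : ℤ) by push_cast; ring,
    show (q : ℤ) + k = ((q + k : ℕ) : ℤ) by push_cast; ring]
  exact this

theorem isReg_congr {M N : (P).Modules} (e : M ≅ N) (h : KRR.IsRegSheaf r S M) : KRR.IsRegSheaf r S N :=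
  (isReg_iff N).2 fun q hq => van_of_iso e ((isReg_iff M).1 h q hq)

theorem isReg_T_nat {M : (P).Modules} (h : KRR.IsRegSheaf r S M) : ∀ m : ℕ, KRR.IsRegSheaf r S ((T r S m).obj M)
  | 0 => by
    obtain ⟨z⟩ := nonempty_T_zero r S
    exact isReg_congr (z.app M).symm h
  | m + 1 => by
    obtain ⟨t⟩ := nonempty_T_comp r S (show (m : ℤ) + 1 = ((m + 1 : ℕ) : ℤ) by push_cast; rfl)
    exact isReg_congr (t.app M) (isReg_T_one (isReg_T_nat h m))

/-- The vanishing of a regular module. -/
theorem van_of_isReg {M : (P).Modules} (h : KRR.IsRegSheaf r S M) {q d : ℤ} (hq : 1 ≤ q) (hd : -q ≤ d) :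
    Van r S q d M := by
  obtain ⟨q, rfl⟩ := Int.eq_ofNat_of_zero_le (show (0 : ℤ) ≤ q by omega)
  obtain ⟨m, hm⟩ := Int.eq_ofNat_of_zero_le (show (0 : ℤ) ≤ d + q by omega)
  exact (van_T (show (m : ℤ) + -(q : ℤ) = d by omega) M).1 ((isReg_iff _).1 (isReg_T_nat h m) q (by omega))

/-- Inverse images from the base are regular. -/
theorem isReg_pullback (M : S.Modules) (hM : Coh.IsQCoh M) :
    KRR.IsRegSheaf r S ((Scheme.Modules.pullback π).obj M) := by
  have key : ∀ j : ℕ, ∀ q : ℤ, (j : ℤ) ≤ q → 1 ≤ q → Van r S q (-(j : ℤ)) ((Scheme.Modules.pullback π).obj M) := by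
    intro j
    induction j using Nat.strong_induction_on with
    | _ j ih =>
      intro q hjq hq
      rcases Nat.eq_zero_or_pos j with rfl | hj
      · simpa using van_pullback_zero M hM (q := q) (by omega)
      rcases le_or_gt j r with hjr | hjr
      · exact van_pullback_window M hM (by omega) (by omega) q
      refine van_down fun k hk => ?_
      have := ih (j - 1 - k) (by omega) (q - k) (by omega) (by omega)
      exact (show -((j - 1 - k : ℕ) : ℤ) = -(j : ℤ) + 1 + k by omega) ▸ this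
  exact (isReg_iff _).2 fun q hq => key q q le_rfl (by omega)

end Groth.Agent.RegLib
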