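import Mathlib.Algebra.Module.Basic
import Mathlib.Algebra.BigOperators.Intervals
import Mathlib.Data.Nat.Choose.Sum
import Mathlib.Tactic.Abel

/-!
# Extending eventual sequences along the binomial recurrence
-/

set_option autoImplicit false

noncomputable section

namespace Groth.Agent.RegLib.Recur

variable {G : Type*} [AddCommGroup G] (N : ℕ)

/-- The binomial recurrence at `t`. -/
def rec' (v : ℕ → G) (t : ℕ) : G :=
  ∑ k ∈ Finset.range (N + 1), ((-1 : ℤ) ^ k * (N.choose k : ℤ)) • v (t + k)

/-- The value forced at `m` by the values above `m`. -/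
def back (v : ℕ → G) (m : ℕ) : G :=
  -∑ k ∈ Finset.range N, ((-1 : ℤ) ^ (k + 1) * (N.choose (k + 1) : ℤ)) • v (m + (k + 1))

/-- The value at `0` of the extension of the values above `m`. -/
def ext : ℕ → (ℕ → G) → G
  | 0, v => v 0
  | m + 1, v => ext m (Function.update v m (back N v m))

theorem rec'_eq (v : ℕ → G) (t : ℕ) : rec' N v t = v t - back N v t := by
  rw [rec', Finset.sum_range_succ']
  simp only [back, sub_neg_eq_add, pow_zero, Nat.choose_zero_right, Nat.cast_one, mul_one, one_zsmul, add_zero]
  abel

theorem back_congr {v w : ℕ → G} {m : ℕ} (h : ∀ j, m < j → v j = w j) : back N v m = back N w m := by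
  unfold back
  exact congrArg Neg.neg (Finset.sum_congr rfl fun k _ => by rw [h _ (by omega)])

theorem ext_congr : ∀ (m : ℕ) {v w : ℕ → G}, (∀ j, m ≤ j → v j = w j) → ext N m v = ext N m w
  | 0, v, w, h => h 0 le_rfl
  | m + 1, v, w, h => ext_congr m fun j hj => by
    rcases eq_or_lt_of_le hj with rfl | hj
    · simp only [Function.update_self]
      exact back_congr N fun i hi => h i hi
    · rw [Function.update_of_ne (by omega), Function.update_of_ne (by omega), h j hj]

theorem back_add (v w : ℕ → G) (m : ℕ) : back N (v + w) m = back N v m + back N w m := by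
  simp only [back, Pi.add_apply, smul_add, Finset.sum_add_distrib, neg_add]

theorem ext_add : ∀ (m : ℕ) (v w : ℕ → G), ext N m (v + w) = ext N m v + ext N m w
  | 0, _, _ => rfl
  | m + 1, v, w => by
    show ext N m _ = ext N m _ + ext N m _
    rw [← ext_add m]
    refine ext_congr N m fun j _ => ?_
    by_cases hj : j = m
    · subst hj
      simp only [Pi.add_apply, Function.update_self, back_add]
    · simp only [Pi.add_apply, Function.update_of_ne hj]

theorem ext_succ {m : ℕ} {v : ℕ → G} (h : rec' N v m = 0) : ext N (m + 1) v = ext N m v := by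
  refine ext_congr N m fun j _ => ?_
  by_cases hj : j = m
  · subst hj
    rw [Function.update_self]
    exact (sub_eq_zero.1 ((rec'_eq N v j).symm.trans h)).symm
  · rw [Function.update_of_ne hj]

theorem ext_of_le {m m' : ℕ} {v : ℕ → G} (hm : m ≤ m') (h : ∀ t, m ≤ t → rec' N v t = 0) :
    ext N m' v = ext N m v := by
  induction m', hm using Nat.le_induction with
  | base => rfl
  | succ k hk ih => rw [ext_succ N (h k hk), ih]

theorem ext_map {H : Type*} [AddCommGroup H] (f : G →+ H) : ∀ (m : ℕ) (v : ℕ → G), f (ext N m v) = ext N m (f ∘ v)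
  | 0, _ => rfl
  | m + 1, v => by
    show f (ext N m _) = ext N m _
    rw [ext_map f m]
    refine ext_congr N m fun j _ => ?_
    by_cases hj : j = m
    · subst hj
      simp only [Function.comp, Function.update_self, back, map_neg, map_sum, map_zsmul]
    · simp only [Function.comp, Function.update_of_ne hj]

end Groth.Agent.RegLib.Recur
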