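import Groth.Agent.RegLib.Counit
import Groth.Agent.GrTildeLib.GammaFin
import Groth.Agent.DCohMore.PerfHom
import Groth.Agent.BCLib.SteinFlat

/-!
# Vanishing for high twists of vector bundles on projective space over a quasi-compact scheme
-/

set_option autoImplicit false
set_option linter.style.haveILetI false
set_option linter.unusedSectionVars false
set_option maxHeartbeats 1000000
set_option backward.isDefEq.respectTransparency false

universe u

open CategoryTheory CategoryTheory.Limits AlgebraicGeometry TopologicalSpace Opposite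
open Groth.Agent.DCohLib Groth.Agent.DCohMore

attribute [local instance] HasDerivedCategory.standard

noncomputable section

namespace Groth.Agent.RegLib

open Groth.Agent.DCohMore.TwistOver

variable (r : ℕ)

/-- Coproducts are preserved by inverse images. -/
theorem nonempty_pullback_sigma {X Y : Scheme.{u}} (f : X ⟶ Y) {c : ℕ} (M : Y.Modules) :
    Nonempty ((Scheme.Modules.pullback f).obj (∐ fun _ : Fin c => M) ≅
      ∐ fun _ : Fin c => (Scheme.Modules.pullback f).obj M) :=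
  haveI : PreservesColimitsOfSize.{0, 0} (Scheme.Modules.pullback f) :=
    (Scheme.Modules.pullbackPushforwardAdjunction f).leftAdjoint_preservesColimits
  ⟨PreservesCoproduct.iso (Scheme.Modules.pullback f) _⟩

/-- Modules of finite type on projective space over a ring are quotients of sums of negative twists. -/
theorem exists_epi_proj {A : Type u} [CommRing A] (G : (CohB1.ProjSpace r A).Modules) (hG : Coh.IsQCoh G)
    (hFT : CohB1.IsFT G) : ∃ (n k : ℕ) (p : (∐ fun _ : Fin k => Twist.twistProjSpace r A (-(n : ℤ))) ⟶ G), Epi p := by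
  haveI : Coh.IsQCoh (X := Proj (CohB1.polyGrading r A)) G := hG
  obtain ⟨n₀, h⟩ := Groth.Agent.GrTildeLib.exists_epi_negTwist (𝒜 := CohB1.polyGrading r A)
    (ι := ULift.{u} (Fin (r + 1))) (g := fun i => AmpleEmb.coordForm r A i.down) (F := G) hFT fun x => by
      obtain ⟨i, hi⟩ := Opens.mem_iSup.1 ((AmpleEmb.iSup_stdOpen r A).symm ▸ (Opens.mem_top x))
      exact ⟨⟨i⟩, hi⟩
  obtain ⟨k, p, hp⟩ := h n₀ le_rfl
  exact ⟨n₀, k, p, hp⟩

/-- The chart of projective space over an affine scheme is an isomorphism. -/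
theorem exists_chart_id (A : Type u) [CommRing A] :
    ∃ g₁ : CohB1.ProjSpace r A ⟶ KRR.PY r (Spec (CommRingCat.of A)), IsIso g₁ ∧
      IsPullback g₁ (CohB1.ProjSpace.toSpec r A) (KRR.pr r (Spec (CommRingCat.of A))) (𝟙 _) ∧
      ∀ d, Nonempty ((Scheme.Modules.pullback g₁).obj (O r (Spec (CommRingCat.of A)) d) ≅ Twist.twistProjSpace r A d) := by
  obtain ⟨g₁, hsq, htw⟩ := exists_chart r (Spec (CommRingCat.of A)) (𝟙 (Spec (CommRingCat.of A)))
  exact ⟨g₁, hsq.isIso_fst_of_isIso, hsq, htw⟩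

/-- Modules of finite type on projective space over an affine scheme. -/
theorem exists_epi_affine {A : Type u} [CommRing A] (F : (KRR.PY r (Spec (CommRingCat.of A))).Modules)
    (hflf : FlatMod.IsFinLocFree F) :
    ∃ (n k : ℕ) (p : (∐ fun _ : Fin k => O r (Spec (CommRingCat.of A)) (-(n : ℤ))) ⟶ F), Epi p := by
  obtain ⟨g₁, _, -, htw⟩ := exists_chart_id r A
  have h₁ := PullbackMod.isFinLocFree_pullback g₁ _ hflf
  obtain ⟨n, k, p, hp⟩ := exists_epi_proj r ((Scheme.Modules.pullback g₁).obj F)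
    (PullbackMod.isQCoh_and_isFP_of_isFinLocFree _ h₁).1 (ExactConstrLib.isFT_of_isFP (PullbackMod.isQCoh_and_isFP_of_isFinLocFree _ h₁).2)
  obtain ⟨t⟩ := htw (-(n : ℤ))
  obtain ⟨σ⟩ := nonempty_pullback_sigma (inv g₁) (c := k) (Twist.twistProjSpace r A (-(n : ℤ)))
  let back : ∀ M : (KRR.PY r (Spec (CommRingCat.of A))).Modules,
      (Scheme.Modules.pullback (inv g₁)).obj ((Scheme.Modules.pullback g₁).obj M) ≅ M := fun M =>
    (Scheme.Modules.pullbackComp (inv g₁) g₁).app M ≪≫ (Scheme.Modules.pullbackCongr (IsIso.inv_hom_id g₁)).app M ≪≫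
      (Scheme.Modules.pullbackId _).app M
  let e : (∐ fun _ : Fin k => O r (Spec (CommRingCat.of A)) (-(n : ℤ))) ≅
      (Scheme.Modules.pullback (inv g₁)).obj (∐ fun _ : Fin k => Twist.twistProjSpace r A (-(n : ℤ))) :=
    Sigma.mapIso (fun _ => (back _).symm ≪≫ (Scheme.Modules.pullback (inv g₁)).mapIso t) ≪≫ σ.symm
  haveI := hp
  haveI : PreservesColimitsOfSize.{0, 0} (Scheme.Modules.pullback (inv g₁)) :=
    (Scheme.Modules.pullbackPushforwardAdjunction (inv g₁)).leftAdjoint_preservesColimits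
  refine ⟨n, k, e.hom ≫ (Scheme.Modules.pullback (inv g₁)).map p ≫ (back F).hom, ?_⟩
  infer_instance

theorem isFT_of_flf' {X : Scheme.{u}} {M : X.Modules} (h : FlatMod.IsFinLocFree M) : CohB1.IsFT M :=
  ExactConstrLib.isFT_of_isFP (PullbackMod.isQCoh_and_isFP_of_isFinLocFree M h).2

theorem isReg_O_zero (S : Scheme.{u}) : KRR.IsRegSheaf r S (O r S 0) := by
  obtain ⟨z⟩ := nonempty_zero r S
  refine isReg_congr (pullStructureIso (KRR.pr r S) ≪≫ z.symm) (isReg_pullback _ ?_)
  exact (PullbackMod.isQCoh_and_isFP_of_isFinLocFree _ (Groth.Agent.BCLib.isFinLocFree_structureModule S)).1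

theorem van_O {S : Scheme.{u}} (q d c : ℤ) (hq : 1 ≤ q) (hd : -q ≤ d + c) : Van r S q d (O r S c) := by
  obtain ⟨m⟩ := nonempty_mul r S (show c + 0 = c by simp)
  exact van_of_iso m ((van_T (show c + d = c + d from rfl) _).2 (van_of_isReg (isReg_O_zero r S) hq (by omega)))

/-- High twists of vector bundles over an affine base. -/
theorem exists_vanishing_affine {A : Type u} [CommRing A] :
    ∀ (F : (KRR.PY r (Spec (CommRingCat.of A))).Modules), FlatMod.IsFinLocFree F →
      ∃ m₀ : ℕ, ∀ (d : ℤ), (m₀ : ℤ) ≤ d → ∀ q : ℤ, 1 ≤ q → Van r (Spec (CommRingCat.of A)) q d F := by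
  obtain ⟨N, hN⟩ := exists_isLE_rpush_qcoh (KRR.pr r (Spec (CommRingCat.of A)))
  have key : ∀ (s : ℕ) (F : (KRR.PY r (Spec (CommRingCat.of A))).Modules), FlatMod.IsFinLocFree F →
      ∃ m₀ : ℕ, ∀ (d : ℤ), (m₀ : ℤ) ≤ d → ∀ q : ℤ, (N : ℤ) + 1 - s ≤ q → 1 ≤ q →
        Van r (Spec (CommRingCat.of A)) q d F := by
    intro s
    induction s with
    | zero =>
      intro F hF
      refine ⟨0, fun d _ q hq _ => ?_⟩
      haveI := (PullbackMod.isQCoh_and_isFP_of_isFinLocFree F hF).1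
      haveI := isQCoh_T d F
      have := hN (DCoh.inD _ ((T r _ d).obj F)) 0 (isQCohD_inD _ ‹_›) inferInstance
      exact (DerivedCategory.isLE_iff _ _).1 this q (by omega)
    | succ s ih =>
      intro F hF
      obtain ⟨hFq, hFp⟩ := PullbackMod.isQCoh_and_isFP_of_isFinLocFree F hF
      obtain ⟨n, k, p, hp⟩ := exists_epi_affine r F hF
      haveI := hp
      have hsum := isFinLocFree_sigma k (fun _ : Fin k => O r (Spec (CommRingCat.of A)) (-(n : ℤ)))
        fun _ => isFinLocFree_O r _ _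
      have hS : (ShortComplex.mk (kernel.ι p) p (kernel.condition p)).ShortExact :=
        { exact := ShortComplex.exact_kernel p }
      obtain ⟨m, hm⟩ := ih (kernel p) (isFinLocFree_of_shortExact hS hsum hF)
      refine ⟨max m n, fun d hd q hq hq1 => van₃ hS q d ?_ (hm d (by omega) (q + 1) (by omega) (by omega))⟩
      exact isZero_obj_of_total (T r _ d ⋙ DerivedCategory.singleFunctor _ 0 ⋙
        DCoh.Rpush (KRR.pr r (Spec (CommRingCat.of A))) ⋙ DerivedCategory.homologyFunctor _ q)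
        (Iso.refl _) (van_O r q d _ hq1 (by omega))
  intro F hF
  obtain ⟨m, hm⟩ := key N F hF
  exact ⟨m, fun d hd q hq => hm d hd q (by omega) hq⟩

variable {r} {S : Scheme.{u}}

/-- Vanishing on a chart. -/
theorem nonempty_chart_HD {A : Type u} [CommRing A] (g : Spec (CommRingCat.of A) ⟶ S) [IsOpenImmersion g]
    (g' : CohB1.ProjSpace r A ⟶ KRR.PY r S) (hsq : IsPullback g' (CohB1.ProjSpace.toSpec r A) (KRR.pr r S) g)
    [DCoh.HasRpush (CohB1.ProjSpace.toSpec r A)] (q d : ℤ)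
    (F : (KRR.PY r S).Modules) (hF : Coh.IsQCoh F) :
    Nonempty ((Scheme.Modules.restrictFunctor g).obj (DCoh.HD (W r S d F) q) ≅
      DCoh.HD ((DCoh.Rpush (CohB1.ProjSpace.toSpec r A)).obj
        (DCoh.inD _ ((Scheme.Modules.pullback g').obj ((T r S d).obj F)))) q) := by
  haveI : IsOpenImmersion g' := MorphismProperty.of_isPullback hsq.flip (inferInstance : IsOpenImmersion g)
  haveI := hasLpull g
  haveI := hasLpull g'
  haveI := hasLpull (CohB1.ProjSpace.toSpec r A)
  obtain ⟨h1, -, -⟩ := exists_bc_chart r S g g' hsq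
  haveI := hF
  obtain ⟨e⟩ := h1 (DCoh.inD _ ((T r S d).obj F)) (isQCohD_inD _ (isQCoh_T d F))
  let i : (DCoh.Lpull g').obj (DCoh.inD _ ((T r S d).obj F)) ≅
      DCoh.inD _ ((Scheme.Modules.pullback g').obj ((T r S d).obj F)) :=
    (lpullRestrictNatIso g').app _ ≪≫ ((Scheme.Modules.restrictFunctor g').mapDerivedCategorySingleFunctor 0).app _ ≪≫
      (DerivedCategory.singleFunctor _ 0).mapIso ((Scheme.Modules.restrictFunctorIsoPullback g').app _)
  exact ⟨(restrictHDIso g _ q).symm ≪≫ (DerivedCategory.homologyFunctor _ q).mapIso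
    (((lpullRestrictNatIso g).app _).symm ≪≫ e ≪≫ (DCoh.Rpush _).mapIso i)⟩

/-- High twists of vector bundles have no higher direct images. -/
theorem exists_vanishing [CompactSpace S] (F : (KRR.PY r S).Modules) (hF : FlatMod.IsFinLocFree F) :
    ∃ m₀ : ℕ, ∀ (d : ℤ), (m₀ : ℤ) ≤ d → ∀ q : ℤ, 1 ≤ q → Van r S q d F := by
  classical
  obtain ⟨hFq, -⟩ := PullbackMod.isQCoh_and_isFP_of_isFinLocFree F hF
  have hloc : ∀ x : S, ∃ (W : S.Opens) (hW : IsAffineOpen W), x ∈ W ∧ ∃ m₀ : ℕ, ∀ (d : ℤ), (m₀ : ℤ) ≤ d →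
      ∀ q : ℤ, 1 ≤ q → IsZero ((Scheme.Modules.restrictFunctor hW.fromSpec).obj (DCoh.HD (RegLib.W r S d F) q)) := by
    intro x
    obtain ⟨_, ⟨W, hW, rfl⟩, hx, -⟩ :=
      S.isBasis_affineOpens.exists_subset_of_mem_open (Set.mem_univ x) isOpen_univ
    refine ⟨W, hW, hx, ?_⟩
    obtain ⟨g', hsq, htw⟩ := exists_chart r S (A := Γ(S, W)) hW.fromSpec
    obtain ⟨g₁, _, hsq₁, htw₁⟩ := exists_chart_id r Γ(S, W)
    let F' := (Scheme.Modules.pullback (inv g₁)).obj ((Scheme.Modules.pullback g').obj F)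
    have hF' : FlatMod.IsFinLocFree F' :=
      PullbackMod.isFinLocFree_pullback _ _ (PullbackMod.isFinLocFree_pullback _ _ hF)
    obtain ⟨m, hm⟩ := exists_vanishing_affine r F' hF'
    refine ⟨m, fun d hd q hq => ?_⟩
    haveI := BC.hasRpush (CohB1.ProjSpace.toSpec r Γ(S, W))
    obtain ⟨e⟩ := nonempty_chart_HD hW.fromSpec g' hsq q d F hFq
    obtain ⟨e₁⟩ := nonempty_chart_HD (𝟙 _) g₁ hsq₁ q d F'
      (PullbackMod.isQCoh_and_isFP_of_isFinLocFree F' hF').1
    obtain ⟨t⟩ := htw d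
    obtain ⟨t₁⟩ := htw₁ d
    let b : (Scheme.Modules.pullback g₁).obj F' ≅ (Scheme.Modules.pullback g').obj F :=
      (Scheme.Modules.pullbackComp g₁ (inv g₁)).app _ ≪≫ (Scheme.Modules.pullbackCongr (IsIso.hom_inv_id g₁)).app _ ≪≫
        (Scheme.Modules.pullbackId _).app _
    let c : (Scheme.Modules.pullback g₁).obj ((T r _ d).obj F') ≅ (Scheme.Modules.pullback g').obj ((T r S d).obj F) :=
      ((pullTensorBiIsoSch g₁).app (O r _ d)).app F' ≪≫
      (((DCoh.tensorBi (X := CohB1.ProjSpace r Γ(S, W))).mapIso (t₁ ≪≫ t.symm)).app _) ≪≫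
      ((DCoh.tensorBi (X := CohB1.ProjSpace r Γ(S, W))).obj _).mapIso b ≪≫
      (((pullTensorBiIsoSch g').app (O r S d)).app F).symm
    exact IsZero.of_iso ((Scheme.Modules.restrictFunctor (𝟙 _)).map_isZero (hm d hd q hq))
      (e ≪≫ (DerivedCategory.homologyFunctor _ q).mapIso ((DCoh.Rpush _).mapIso
        ((DerivedCategory.singleFunctor _ 0).mapIso c.symm)) ≪≫ e₁.symm)
  choose W hW hxW m hm using hloc
  obtain ⟨T, hT⟩ := isCompact_univ.elim_finite_subcover (fun x => (W x : Set S)) (fun x => (W x).2)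
    (fun x _ => Set.mem_iUnion.2 ⟨x, hxW x⟩)
  refine ⟨T.sup m, fun d hd q hq => isZero_of_local fun y => ?_⟩
  obtain ⟨x, hxT, hy⟩ := Set.mem_iUnion₂.1 (hT (Set.mem_univ y))
  obtain ⟨z, hz⟩ : y ∈ Set.range (hW x).fromSpec := by rw [(hW x).range_fromSpec]; exact hy
  exact ⟨_, (hW x).fromSpec, inferInstance, z, hz, hm x d
    (le_trans (by exact_mod_cast Finset.le_sup hxT) hd) q hq⟩

end Groth.Agent.RegLib
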