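import Groth.Agent.RegLib.Chase
import Groth.Agent.DCohMore.PerfVanish
import Groth.Agent.SiteCmpLib.Devissage

/-!
# Windows of twists bound cohomology sheaves from above
-/

set_option autoImplicit false
set_option linter.style.haveILetI false
set_option linter.unusedSectionVars false
set_option maxHeartbeats 1000000
set_option backward.isDefEq.respectTransparency false

universe u

open CategoryTheory CategoryTheory.Limits AlgebraicGeometry TopologicalSpace Opposite
open CategoryTheory.Pretriangulated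
open Groth.Agent.DCohLib Groth.Agent.DCohMore

attribute [local instance] HasDerivedCategory.standard

noncomputable section

namespace Groth.Agent.RegLib

open Groth.Agent.DCohMore.TwistOver

variable {r : ℕ} {S : Scheme.{u}}

local notation "P" => KRR.PY r S
local notation "π" => KRR.pr r S
local notation "tS" => (DerivedCategory.TStructure.t : CategoryTheory.Triangulated.TStructure (DCoh.D S))

theorem le_iso {X : Scheme.{u}} {K L : DCoh.D X} (e : K ≅ L) {n : ℤ} (h : K.IsLE n) : L.IsLE n :=
  (DerivedCategory.isLE_iff _ _).2 fun i hi => IsZero.of_iso ((DerivedCategory.isLE_iff _ _).1 h i hi)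
    ((DerivedCategory.homologyFunctor X.Modules i).mapIso e.symm)

theorem isLE_rpush_F_lpull_bdd (d : ℤ) (hd : 0 ≤ d) : ∀ (l : ℕ) (b : ℤ) (V : DCoh.D S), DCoh.IsQCohD V →
    V.IsLE b → V.IsGE (b - l) → ((DCoh.Rpush π).obj ((F r S d).obj ((DCoh.Lpull π).obj V))).IsLE b := by
  haveI : SiteCmp.HasRpushD (ModSite.RMor.ofScheme π) := hasRpush_pr r S
  obtain ⟨h₁, h₂⟩ := SiteCmpLib.exists_triangulated_rpushD (ModSite.RMor.ofScheme π)
  letI : (DCoh.Rpush π).CommShift ℤ := h₁
  haveI : (DCoh.Rpush π).IsTriangulated := h₂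
  letI := (lpullRpushAdj π).leftAdjointCommShift ℤ
  haveI := (lpullRpushAdj π).commShift_of_rightAdjoint ℤ
  haveI := (lpullRpushAdj π).isTriangulated_leftAdjoint
  let Φ := DCoh.Lpull π ⋙ F r S d ⋙ DCoh.Rpush π
  have single : ∀ (b : ℤ) (V : DCoh.D S), DCoh.IsQCohD V → V.IsLE b → V.IsGE b → (Φ.obj V).IsLE b := by
    intro b V hq _ _
    obtain ⟨M, ⟨e⟩⟩ := V.exists_iso_singleFunctor_obj_of_isGE_of_isLE b
    haveI hM : Coh.IsQCoh M := isQCoh_of_iso' ((DerivedCategory.homologyFunctor S.Modules b).mapIso e ≪≫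
      (DerivedCategory.singleFunctorCompHomologyFunctorIso S.Modules b).app M) (hq b)
    let e' : V ≅ (DCoh.inD S M)⟦-b⟧ :=
      e ≪≫ (((DerivedCategory.singleFunctors S.Modules).shiftIso (-b) b 0 (by omega)).app M).symm
    obtain ⟨eM⟩ := nonempty_lpull_inD (r := r) M
    obtain ⟨eT⟩ := nonempty_F_inD d ((Scheme.Modules.pullback π).obj M)
    haveI : (Φ.obj (DCoh.inD S M)).IsLE 0 := (DerivedCategory.isLE_iff _ _).2 fun i hi =>
      IsZero.of_iso (van_of_isReg (isReg_pullback (r := r) M hM) (q := i) (d := d) (by omega) (by omega))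
        ((DerivedCategory.homologyFunctor S.Modules i).mapIso ((DCoh.Rpush π).mapIso ((F r S d).mapIso eM ≪≫ eT)))
    exact le_iso ((Φ.mapIso e' ≪≫ (Φ.commShiftIso (-b)).app _)).symm
      (isLE_shift' (Φ.obj (DCoh.inD S M)) 0 (-b) b (by omega))
  intro l
  induction l with
  | zero => exact fun b V hq h1 h2 => single b V hq h1 (by simpa using h2)
  | succ l ih =>
    intro b V hq hle hge
    have hT := (tS).triangleLTGE_distinguished b V
    have hq₁ := isQCohD_truncLT hq b
    haveI : (((tS).truncLT b).obj V).IsLE (b - 1) := (tS).isLE_truncLT_obj V b _ (by omega)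
    haveI := hge
    haveI := hle
    have hge₁ : (((tS).truncLT b).obj V).IsGE (b - 1 - l) := by
      have := SiteCmpLib.isGE_truncLT V (b - (l + 1 : ℕ)) b
      exact (show b - ((l + 1 : ℕ) : ℤ) = b - 1 - l by omega) ▸ this
    have hle₁ : (Φ.obj (((tS).truncLT b).obj V)).IsLE (b - 1) := ih (b - 1) _ hq₁ ‹_› hge₁
    haveI : (((tS).truncGE b).obj V).IsLE b := (DerivedCategory.isLE_iff _ _).2 fun i hi => by
      haveI := DCohLib.isIso_homology_truncGEπ V b i hi.le
      exact IsZero.of_iso (DerivedCategory.isZero_of_isLE V b i hi)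
        (asIso ((DerivedCategory.homologyFunctor S.Modules i).map (((tS).truncGEπ b).app V))).symm
    haveI : (((tS).truncGE b).obj V).IsGE b := inferInstanceAs ((tS).IsGE (((tS).truncGE b).obj V) b)
    have hq₃ : DCoh.IsQCohD (((tS).truncGE b).obj V) := fun i => by
      rcases lt_or_ge i b with h | h
      · exact isQCoh_of_isZero (DerivedCategory.isZero_of_isGE _ b i h)
      · haveI := DCohLib.isIso_homology_truncGEπ V b i h
        exact isQCoh_of_iso' (asIso ((DerivedCategory.homologyFunctor S.Modules i).map (((tS).truncGEπ b).app V))) (hq i)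
    have hle₃ : (Φ.obj (((tS).truncGE b).obj V)).IsLE b := single b _ hq₃ ‹_› ‹_›
    refine (DerivedCategory.isLE_iff _ _).2 fun i hi => ?_
    exact (DerivedCategory.HomologySequence.exact₂ _ (Φ.map_distinguished _ hT) i).isZero_of_both_zeros
      (((DerivedCategory.isLE_iff _ _).1 hle₁ i (by omega)).eq_of_src _ _)
      (((DerivedCategory.isLE_iff _ _).1 hle₃ i hi).eq_of_tgt _ _)

theorem isGE_F (d a : ℤ) (K : DCoh.D (KRR.PY r S)) [K.IsGE a] : ((F r S d).obj K).IsGE a :=
  SiteCmpLib.isLeftExact_mapDerived (T r S d) K a ‹_›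

theorem isGE_lpull_pr (a : ℤ) (V : DCoh.D S) [V.IsGE a] : ((DCoh.Lpull π).obj V).IsGE a :=
  (DerivedCategory.isGE_iff _ _).2 fun i hi => by
    obtain ⟨e⟩ := nonempty_HD_lpull_flat π V i
    exact IsZero.of_iso ((Scheme.Modules.pullback π).map_isZero (DerivedCategory.isZero_of_isGE V a i hi)) e.symm

theorem isLE_lpull_pr (a : ℤ) (V : DCoh.D S) [V.IsLE a] : ((DCoh.Lpull π).obj V).IsLE a :=
  (DerivedCategory.isLE_iff _ _).2 fun i hi => by
    obtain ⟨e⟩ := nonempty_HD_lpull_flat π V i
    exact IsZero.of_iso ((Scheme.Modules.pullback π).map_isZero (DerivedCategory.isZero_of_isLE V a i hi)) e.symm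

/-- Cohomology sheaves are bounded above by the windows. -/
theorem isLE_of_window (b : ℤ) : ∀ (m k : ℕ), k + m = r + 1 → ∀ (a : ℤ) (L : DCoh.D (KRR.PY r S)),
    a ≤ b → DCoh.IsQCohD L → L.IsGE a →
    (∀ d : ℤ, -(k : ℤ) ≤ d → d < 0 → IsZero ((DCoh.Rpush π).obj ((F r S d).obj L))) →
    (∀ d : ℤ, 0 ≤ d → d < m → ((DCoh.Rpush π).obj ((F r S d).obj L)).IsLE b) → L.IsLE b
  | 0, k, hk, a, L, hab, hq, hge, hz, _ => by
    have hL : IsZero ((F r S (-1)).obj L) := isZero_of_window r S _ (isQCohD_F r S _ L hq) fun j hj => by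
      obtain ⟨c⟩ := nonempty_F_comp r S (show (-1 : ℤ) + -(j : ℤ) = -1 - j by ring)
      exact IsZero.of_iso (hz (-1 - j) (by omega) (by omega)) ((DCoh.Rpush π).mapIso (c.app L))
    obtain ⟨c⟩ := nonempty_F_comp r S (show (-1 : ℤ) + 1 = 0 by ring)
    obtain ⟨z⟩ := nonempty_F_zero r S
    have : IsZero L := IsZero.of_iso ((F r S 1).map_isZero hL) ((c ≪≫ z).app L).symm
    exact (DerivedCategory.isLE_iff _ _).2 fun i _ => (DerivedCategory.homologyFunctor _ i).map_isZero this
  | m + 1, k, hk, a, L, hab, hq, hge, hz, hle => by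
    let adj := lpullRpushAdj π
    obtain ⟨z⟩ := nonempty_F_zero r S
    let V := (DCoh.Rpush π).obj L
    have hVq : DCoh.IsQCohD V := isQCohD_rpush π L hq
    haveI := hge
    haveI hVge : V.IsGE a := isGE_rpush π L a
    haveI hVle : V.IsLE b := le_iso ((DCoh.Rpush π).mapIso (z.app L)) (hle 0 le_rfl (by push_cast; omega))
    obtain ⟨L', g, h, hT⟩ := distinguished_cocone_triangle (adj.counit.app L)
    haveI := isGE_lpull_pr (r := r) a V
    haveI := isLE_lpull_pr (r := r) b V
    have hL'ge : L'.IsGE (a - 1) := (DerivedCategory.isGE_iff _ _).2 fun i hi =>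
      (DerivedCategory.HomologySequence.exact₃ _ hT i (i + 1) rfl).isZero_of_both_zeros
        ((DerivedCategory.isZero_of_isGE L a i (by omega)).eq_of_src _ _)
        ((DerivedCategory.isZero_of_isGE ((DCoh.Lpull π).obj V) a (i + 1) (by omega)).eq_of_tgt _ _)
    have hL'q : DCoh.IsQCohD L' := fun i => SiteCmpLib.prop_mid (qcP P) _ _ _ _ _ _ _
      (DerivedCategory.HomologySequence.exact₂ _ hT i) (DerivedCategory.HomologySequence.exact₃ _ hT i (i + 1) rfl)
      (DerivedCategory.HomologySequence.exact₁ _ hT i (i + 1) rfl)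
      (TildeD.isQCohD_lpull π V hVq i) (hq i) (TildeD.isQCohD_lpull π V hVq (i + 1)) (hq (i + 1))
    have tri : ∀ d : ℤ, ∃ c', Triangle.mk ((DCoh.Rpush π).map ((F r S d).map (adj.counit.app L)))
        ((DCoh.Rpush π).map ((F r S d).map g)) c' ∈ distTriang (DCoh.D S) := fun d =>
      ((exTri_of_isTriangulated (F r S d)).comp (BC.exTri_rpush π)) _ hT
    have hzero : ∀ d : ℤ, -(k : ℤ) ≤ d → d ≤ 0 → IsZero ((DCoh.Rpush π).obj ((F r S d).obj L')) := by
      intro d hd hd'
      obtain ⟨c', hc⟩ := tri d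
      rcases lt_or_eq_of_le hd' with hd' | rfl
      · exact Triangle.isZero₃_of_isZero₁₂ _ hc
          (isZero_rpush_F_lpull r S d hd' (by omega) V hVq) (hz d hd hd')
      · haveI : IsIso (adj.unit.app V) := isIso_unit r S V hVq
        haveI : IsIso ((DCoh.Rpush π).map (adj.counit.app L)) := by
          haveI : IsIso (adj.unit.app V ≫ (DCoh.Rpush π).map (adj.counit.app L)) := by
            rw [adj.right_triangle_components L]
            exact IsIso.id _
          exact IsIso.of_isIso_comp_left (adj.unit.app V) _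
        haveI : IsIso ((DCoh.Rpush π).map ((F r S 0).map (adj.counit.app L))) :=
          (NatIso.isIso_map_iff (Functor.isoWhiskerRight z (DCoh.Rpush π)) (adj.counit.app L)).2 ‹_›
        exact Triangle.isZero₃_of_isIso₁ _ hc ‹IsIso ((DCoh.Rpush π).map ((F r S 0).map (adj.counit.app L)))›
    have hle' : ∀ d : ℤ, 1 ≤ d → d < (m + 1 : ℕ) → ((DCoh.Rpush π).obj ((F r S d).obj L')).IsLE b := by
      intro d hd hd'
      obtain ⟨c', hc⟩ := tri d
      haveI := isLE_rpush_F_lpull_bdd (r := r) d (by omega) (b - a).toNat b V hVq hVle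
        (by rw [show b - ((b - a).toNat : ℤ) = a by omega]; exact hVge)
      haveI := hle d (by omega) hd'
      refine (DerivedCategory.isLE_iff _ _).2 fun i hi => ?_
      exact (DerivedCategory.HomologySequence.exact₃ _ hc i (i + 1) rfl).isZero_of_both_zeros
        ((DerivedCategory.isZero_of_isLE ((DCoh.Rpush π).obj ((F r S d).obj L)) b i hi).eq_of_src _ _)
        ((DerivedCategory.isZero_of_isLE
          ((DCoh.Rpush π).obj ((F r S d).obj ((DCoh.Lpull π).obj V))) b (i + 1) (by omega)).eq_of_tgt _ _)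
    haveI := hL'ge
    haveI : ((F r S 1).obj L').IsLE b := by
      refine isLE_of_window b m (k + 1) (by omega) (a - 1) _ (by omega) (isQCohD_F r S 1 L' hL'q)
        (isGE_F 1 (a - 1) L') (fun d hd hd' => ?_) fun d hd hd' => ?_
      · obtain ⟨c⟩ := nonempty_F_comp r S (show 1 + d = d + 1 by ring)
        exact IsZero.of_iso (hzero (d + 1) (by push_cast at hd; omega) (by omega)) ((DCoh.Rpush π).mapIso (c.app L'))
      · obtain ⟨c⟩ := nonempty_F_comp r S (show 1 + d = d + 1 by ring)
        exact le_iso ((DCoh.Rpush π).mapIso (c.app L')).symm (hle' (d + 1) (by omega) (by push_cast; omega))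
    haveI : L'.IsLE b := by
      obtain ⟨c⟩ := nonempty_F_comp r S (show (1 : ℤ) + -1 = 0 by ring)
      exact le_iso ((c ≪≫ z).app L') (SiteCmpLib.isLE_mapDerived (T r S (-1)) ((F r S 1).obj L') b)
    refine (DerivedCategory.isLE_iff _ _).2 fun i hi => ?_
    exact (DerivedCategory.HomologySequence.exact₂ _ hT i).isZero_of_both_zeros
      ((DerivedCategory.isZero_of_isLE ((DCoh.Lpull π).obj V) b i hi).eq_of_src _ _)
      ((DerivedCategory.isZero_of_isLE L' b i hi).eq_of_tgt _ _)

end Groth.Agent.RegLib
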